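import Cfsg.Agent.MonsterU.InvPairQ
import Cfsg.Agent.MonsterU.CoFrameF
import Cfsg.Agent.S0366
import Cfsg.Agent.S0364
import Cfsg.Agent.FastGrp
import Cfsg.Agent.Prune
set_option linter.all false
prune_inst 0x7f00000000000000000000000000000000000000000000000000000000000000000000000000000000000000000000000000000000000000000000000000000000000000000000000000000000000000003fffffffffffffffffffffffffffbeffbdffffffff
open scoped Cfsg.Agent.FastGrp

/-!
# The elements of order 5 of `Co1` fix at most `2 ^ 8` elements of `Λ / 2Λ` (helper44)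

* `exists_sing`, `exists_four` : a subgroup `U` of `Λ / 2Λ` with at least `2 ^ 9` elements contains a class of type 4;
* `card_fix_le` : the number of fixed classes from the number of orbits on the coordinates;
* `fix_le` : `|C_{Λ/2Λ}(g)| ≤ 2 ^ 8` for `g` of order 5 in `Co1`.
-/

set_option autoImplicit false
set_option linter.unusedSectionVars false

namespace Cfsg.Agent.LThreeM.FiveFix

open Cfsg Cfsg.Spor Cfsg.Agent.LeechMat.Core Cfsg.Agent.MonsterU.Lam2 Cfsg.Agent.MonsterU.TwoQ
open Cfsg.Agent.MonsterU.InvPair Cfsg.Agent.MonsterU.TwoCls Cfsg.Agent.MonsterX.KSide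
open Cfsg.Agent.SporadicA.Co0Mono (signCo0 permCo0 permCo0_smul signCo0_smul permMap signMap)
open Cfsg.Agent.SporadicA.Co1Simple (N exists_sign_perm)
open Cfsg.Agent.SporadicStructure.Co0Base (e8 e8_coe)

/-! ### Singular vectors -/

/-- `K ∪ (K + a)` -/
def ext (K : AddSubgroup L2) (a : L2) : AddSubgroup L2 where
  carrier := {x | x ∈ K ∨ x + a ∈ K}
  zero_mem' := Or.inl K.zero_mem
  add_mem' := by
    rintro x y (hx | hx) (hy | hy)
    · exact Or.inl (K.add_mem hx hy)
    · right
      have := K.add_mem hx hy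
      rwa [← add_assoc] at this
    · right
      have := K.add_mem hx hy
      have e : x + a + y = x + y + a := by abel
      rwa [e] at this
    · left
      have := K.add_mem hx hy
      have e : x + a + (y + a) = x + y + (a + a) := by abel
      rwa [e, add_self, add_zero] at this
  neg_mem' := by
    intro x hx
    rw [neg_eq]
    exact hx

theorem le_ext (K : AddSubgroup L2) (a : L2) : K ≤ ext K a := fun _ h => Or.inl h

theorem mem_ext_self (K : AddSubgroup L2) (a : L2) : a ∈ ext K a := by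
  right
  rw [add_self]
  exact K.zero_mem

instance : Finite L2 := by
  apply Nat.finite_of_card_ne_zero
  rw [card_L2]
  norm_num

theorem card_ext_le (K : AddSubgroup L2) (a : L2) : Nat.card ↥(ext K a) ≤ 2 * Nat.card ↥K := by
  classical
  let f : ↥(ext K a) → ↥K × Bool := fun x =>
    if h : (x : L2) ∈ K then (⟨x, h⟩, true) else (⟨(x : L2) + a, x.2.resolve_left h⟩, false)
  have hf : Function.Injective f := by
    intro x y hxy
    apply Subtype.ext
    by_cases hx : (x : L2) ∈ K
    · by_cases hy : (y : L2) ∈ K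
      · simp only [f, hx, hy, dif_pos, Prod.mk.injEq, Subtype.mk.injEq, and_true] at hxy
        exact hxy
      · simp [f, hx, hy] at hxy
    · by_cases hy : (y : L2) ∈ K
      · simp [f, hx, hy] at hxy
      · simp only [f, hx, hy, dif_neg, not_false_eq_true, Prod.mk.injEq, Subtype.mk.injEq, and_true] at hxy
        exact add_right_cancel hxy
  have h := Nat.card_le_card_of_injective f hf
  rw [Nat.card_prod] at h
  simpa only [mul_comm, _root_.ge_iff_le, _root_.Nat.card_eq_fintype_card, _root_.Fintype.card_bool] using h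

theorem exists_not_mem {K U : AddSubgroup L2} (h : Nat.card ↥K < Nat.card ↥U) : ∃ x ∈ U, x ∉ K := by
  by_contra hcon
  push Not at hcon
  exact absurd (AddSubgroup.card_le_of_le hcon) (not_le.2 h)

/-- A singular vector in `U` outside `K`. -/
theorem exists_sing {K U : AddSubgroup L2} (hKU : K ≤ U) (h : 8 * Nat.card ↥K ≤ Nat.card ↥U) :
    ∃ x ∈ U, x ∉ K ∧ qf x = 0 := by
  have hK : 0 < Nat.card ↥K := Nat.card_pos
  obtain ⟨a, ha, haK⟩ := exists_not_mem (K := K) (U := U) (by omega)
  have h1 := card_ext_le K a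
  obtain ⟨b, hb, hbK⟩ := exists_not_mem (K := ext K a) (U := U) (by omega)
  have h2 := card_ext_le (ext K a) b
  obtain ⟨c, hc, hcK⟩ := exists_not_mem (K := ext (ext K a) b) (U := U) (by omega)
  by_contra hcon
  push Not at hcon
  have h11 : (1 : ZMod 2) + 1 = 0 := rfl
  have one : ∀ x ∈ U, x ∉ K → qf x = 1 := fun x hx hxK => by
    rcases zmod2 (qf x) with e | e
    · exact absurd e (hcon x hx hxK)
    · exact e
  have hbK' : b ∉ K := fun e => hbK (le_ext _ _ e)
  have hcK' : c ∉ K := fun e => hcK (le_ext _ _ (le_ext _ _ e))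
  have hab : a + b ∉ K := fun e => hbK (Or.inr (by rwa [add_comm]))
  have hac : a + c ∉ K := fun e => hcK (le_ext _ _ (Or.inr (by rwa [add_comm])))
  have hbc : b + c ∉ K := fun e => hcK (Or.inr (le_ext _ _ (by rwa [add_comm])))
  have habc : a + b + c ∉ K := fun e => hcK (Or.inr (Or.inr (by
    have e' : c + b + a = a + b + c := by abel
    rwa [e'])))
  have e1 := one a ha haK
  have e2 := one b hb hbK'
  have e3 := one c hc hcK'
  have e4 := one _ (U.add_mem ha hb) hab
  have e5 := one _ (U.add_mem ha hc) hac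
  have e6 := one _ (U.add_mem hb hc) hbc
  have e7 := one _ (U.add_mem (U.add_mem ha hb) hc) habc
  rw [qf_add, e1, e2, h11, zero_add] at e4
  rw [qf_add, e1, e3, h11, zero_add] at e5
  rw [qf_add, e2, e3, h11, zero_add] at e6
  rw [qf_add, qf_add, bf_add_left, e1, e2, e3, e4, e5, e6] at e7
  exact absurd e7 (by decide)

/-- `{x ∈ U | bf x v = 0}` -/
def perp (U : AddSubgroup L2) (v : L2) : AddSubgroup L2 where
  carrier := {x | x ∈ U ∧ bf x v = 0}
  zero_mem' := ⟨U.zero_mem, bf_zero_left v⟩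
  add_mem' := by
    rintro x y ⟨hx, hx'⟩ ⟨hy, hy'⟩
    exact ⟨U.add_mem hx hy, by rw [bf_add_left, hx', hy', add_zero]⟩
  neg_mem' := by
    intro x hx
    rw [neg_eq]
    exact hx

theorem card_perp (U : AddSubgroup L2) (v : L2) : Nat.card ↥U ≤ 2 * Nat.card ↥(perp U v) := by
  classical
  by_cases h : ∃ w ∈ U, bf w v = 1
  · obtain ⟨w, hw, hwv⟩ := h
    have hne : ∀ x ∈ U, bf x v ≠ 0 → x + w ∈ perp U v := by
      intro x hx hxv
      refine ⟨U.add_mem hx hw, ?_⟩
      rw [bf_add_left, (zmod2 (bf x v)).resolve_left hxv, hwv]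
      rfl
    let f : ↥U → ↥(perp U v) × Bool := fun x =>
      if h : bf (x : L2) v = 0 then (⟨x, x.2, h⟩, true) else (⟨(x : L2) + w, hne x x.2 h⟩, false)
    have hf : Function.Injective f := by
      intro x y hxy
      apply Subtype.ext
      by_cases hx : bf (x : L2) v = 0
      · by_cases hy : bf (y : L2) v = 0
        · simp only [f, hx, hy, dif_pos, Prod.mk.injEq, and_true] at hxy
          exact congrArg (fun z : ↥(perp U v) => (z : L2)) hxy
        · simp [f, hx, hy] at hxy
      · by_cases hy : bf (y : L2) v = 0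
        · simp [f, hx, hy] at hxy
        · simp only [f, hx, hy, dif_neg, not_false_eq_true, Prod.mk.injEq, Subtype.mk.injEq, and_true] at hxy
          exact add_right_cancel hxy
    have h := Nat.card_le_card_of_injective f hf
    rw [Nat.card_prod] at h
    simpa only [mul_comm, _root_.ge_iff_le, _root_.Nat.card_eq_fintype_card, _root_.Fintype.card_bool] using h
  · push Not at h
    have h1 : U ≤ perp U v := fun x hx => ⟨hx, (zmod2 (bf x v)).resolve_right (h x hx)⟩
    have h2 := AddSubgroup.card_le_of_le h1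
    omega

/-- Three independent, mutually orthogonal, singular vectors. -/
theorem exists_three {U : AddSubgroup L2} (hU : 2 ^ 9 ≤ Nat.card ↥U) :
    ∃ a b c : L2, a ∈ U ∧ b ∈ U ∧ c ∈ U ∧ a ≠ 0 ∧ b ≠ 0 ∧ b ≠ a ∧ c ≠ 0 ∧ c ≠ a ∧ c ≠ b ∧ c ≠ a + b ∧
      qf a = 0 ∧ qf b = 0 ∧ qf c = 0 ∧ bf a b = 0 ∧ bf a c = 0 ∧ bf b c = 0 := by
  obtain ⟨a, ha, ha0, hqa⟩ := exists_sing (K := ⊥) (U := U) bot_le (by rw [AddSubgroup.card_bot]; omega)
  have h1 := card_perp U a
  have haU : a ∈ perp U a := ⟨ha, bf_self a⟩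
  have hK1 : ext ⊥ a ≤ perp U a := by
    rintro x (hx | hx)
    · rw [AddSubgroup.mem_bot.1 hx]
      exact AddSubgroup.zero_mem _
    · rw [eq_of_add_eq_zero (AddSubgroup.mem_bot.1 hx)]
      exact haU
  have h2 := card_ext_le ⊥ a
  rw [AddSubgroup.card_bot] at h2
  obtain ⟨b, hb, hbK, hqb⟩ := exists_sing hK1 (by omega)
  have h3 := card_perp (perp U a) b
  have hK2 : ext (ext ⊥ a) b ≤ perp (perp U a) b := by
    have key : ∀ y ∈ ext ⊥ a, y ∈ perp (perp U a) b := by
      intro y hy
      refine ⟨hK1 hy, ?_⟩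
      rcases hy with hy | hy
      · rw [AddSubgroup.mem_bot.1 hy, bf_zero_left]
      · rw [eq_of_add_eq_zero (AddSubgroup.mem_bot.1 hy), bf_comm]
        exact hb.2
    rintro x (hx | hx)
    · exact key x hx
    · have h4 := key _ hx
      have h5 : b ∈ perp (perp U a) b := ⟨hb, bf_self b⟩
      have h6 := AddSubgroup.add_mem _ h4 h5
      rwa [add_assoc, add_self, add_zero] at h6
  have h4 := card_ext_le (ext ⊥ a) b
  obtain ⟨c, hc, hcK, hqc⟩ := exists_sing hK2 (by omega)
  refine ⟨a, b, c, ha, hb.1, hc.1.1, fun e => ha0 (by rw [e]; exact AddSubgroup.zero_mem _), ?_, ?_, ?_, ?_, ?_, ?_, hqa,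
    hqb, hqc, ?_, ?_, ?_⟩
  · rintro rfl
    exact hbK (AddSubgroup.zero_mem _)
  · rintro rfl
    exact hbK (mem_ext_self _ _)
  · rintro rfl
    exact hcK (AddSubgroup.zero_mem _)
  · rintro rfl
    exact hcK (le_ext _ _ (mem_ext_self _ _))
  · rintro rfl
    exact hcK (mem_ext_self _ _)
  · rintro rfl
    apply hcK
    right
    rw [add_assoc, add_self, add_zero]
    exact mem_ext_self _ _
  · rw [bf_comm]; exact hb.2
  · rw [bf_comm]; exact hc.1.2
  · rw [bf_comm]; exact hc.2

theorem type_of_sing {x : L2} (hx : x ≠ 0) (hq : qf x = 0) : IsType 2 x ∨ IsType 4 x := by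
  rcases type_cases x with h | h | h | h
  · exact absurd h hx
  · exact Or.inl h
  · exact absurd hq (qf_type3 h)
  · exact Or.inr h

theorem dvd_of_bf {v w : leechLattice} (h : bf (cl v) (cl w) = 0) : (16 : ℤ) ∣ dot v w := by
  rw [bf_cl, b0] at h
  have h1 := (ZMod.intCast_zmod_eq_zero_iff_dvd _ 2).1 h
  obtain ⟨k, hk⟩ := h1
  obtain ⟨m, hm⟩ := dvd_dot v w
  have h2 : dotInt (v : GolayPt → ℤ) (w : GolayPt → ℤ) / 8 = m := by
    rw [hm]; exact Int.mul_ediv_cancel_left m (by norm_num)
  refine ⟨k, ?_⟩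
  change dotInt _ _ = _
  rw [hm]
  rw [h2] at hk
  rw [hk]
  push_cast
  ring

/-- A subgroup of `Λ / 2Λ` with at least `2 ^ 9` elements contains a class of type 4. -/
theorem exists_four {U : AddSubgroup L2} (hU : 2 ^ 9 ≤ Nat.card ↥U) : ∃ x ∈ U, IsType 4 x := by
  obtain ⟨a, b, c, ha, hb, hc, ha0, hb0, hba, hc0, hca, hcb, hcab, hqa, hqb, hqc, hab, hac, hbc⟩ := exists_three hU
  by_contra hcon
  push Not at hcon
  have two : ∀ x ∈ U, x ≠ 0 → qf x = 0 → IsType 2 x := fun x hx hx0 hq =>
    (type_of_sing hx0 hq).resolve_right (hcon x hx)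
  have hab0 : a + b ≠ 0 := fun e => hba (eq_of_add_eq_zero e).symm
  have hac0 : a + c ≠ 0 := fun e => hca (eq_of_add_eq_zero e).symm
  have hbc0 : b + c ≠ 0 := fun e => hcb (eq_of_add_eq_zero e).symm
  have habc0 : a + b + c ≠ 0 := fun e => hcab (eq_of_add_eq_zero e).symm
  have qab : qf (a + b) = 0 := by rw [qf_add, hqa, hqb, hab]; rfl
  have qac : qf (a + c) = 0 := by rw [qf_add, hqa, hqc, hac]; rfl
  have qbc : qf (b + c) = 0 := by rw [qf_add, hqb, hqc, hbc]; rfl
  have qabc : qf (a + b + c) = 0 := by rw [qf_add, qab, hqc, bf_add_left, hac, hbc]; rfl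
  have tab := two _ (U.add_mem ha hb) hab0 qab
  have tac := two _ (U.add_mem ha hc) hac0 qac
  have tbc := two _ (U.add_mem hb hc) hbc0 qbc
  have tabc := two _ (U.add_mem (U.add_mem ha hb) hc) habc0 qabc
  obtain ⟨u, hu, rfl⟩ := two a ha ha0 hqa
  obtain ⟨v, hv, rfl⟩ := two b hb hb0 hqb
  obtain ⟨w, hw, rfl⟩ := two c hc hc0 hqc
  -- inner products are `± 16`
  have hpm : ∀ {x y : leechLattice}, sqNorm (x : GolayPt → ℤ) = 16 * 2 → sqNorm (y : GolayPt → ℤ) = 16 * 2 →
      bf (cl x) (cl y) = 0 → cl x ≠ cl y → IsType 2 (cl x + cl y) → dot x y = 16 ∨ dot x y = -16 := by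
    intro x y hx hy hb hne ht
    rcases dot_cases (by rw [hx]; norm_num) (by rw [hy]; norm_num) (dvd_of_bf hb) with e | e | e | e | e
    · exact absurd (by rw [e]) hne
    · exact absurd (by rw [e, cl_neg]) hne
    · exact Or.inl e
    · exact Or.inr e
    · exfalso
      refine not_two_four ht ⟨x + y, ?_, map_add _ _ _⟩
      rw [norm_add, hx, hy, e]
      norm_num
  -- normalise the signs
  obtain ⟨v', hv', hvc, huv⟩ : ∃ v' : leechLattice, sqNorm (v' : GolayPt → ℤ) = 16 * 2 ∧ cl v' = cl v ∧ dot u v' = -16 := by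
    rcases hpm hu hv hab (fun e => hba e.symm) tab with e | e
    · exact ⟨-v, by rw [Cfsg.Agent.MonsterU.InvPair.norm_neg, hv], cl_neg v, by rw [dot_neg, e]⟩
    · exact ⟨v, hv, rfl, e⟩
  obtain ⟨w', hw', hwc, huw⟩ : ∃ w' : leechLattice, sqNorm (w' : GolayPt → ℤ) = 16 * 2 ∧ cl w' = cl w ∧ dot u w' = -16 := by
    rcases hpm hu hw hac (fun e => hca e.symm) tac with e | e
    · exact ⟨-w, by rw [Cfsg.Agent.MonsterU.InvPair.norm_neg, hw], cl_neg w, by rw [dot_neg, e]⟩
    · exact ⟨w, hw, rfl, e⟩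
  rw [← hvc, ← hwc] at hbc tbc hcb tabc habc0
  rw [← hwc] at hcab
  have hnorm : sqNorm ((u + v' + w' : leechLattice) : GolayPt → ℤ) = 32 + 2 * dot v' w' := by
    have h1 : dot (u + v') w' = dot u w' + dot v' w' := by
      change dotInt _ _ = dotInt _ _ + dotInt _ _
      unfold dotInt
      rw [← Finset.sum_add_distrib]
      exact Finset.sum_congr rfl fun i _ => by
        rw [show ((u + v' : leechLattice) : GolayPt → ℤ) i = (u : GolayPt → ℤ) i + (v' : GolayPt → ℤ) i from rfl]
        ring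
    rw [norm_add, norm_add, h1, hu, hv', hw', huv, huw]
    ring
  rcases hpm hv' hw' hbc (fun e => hcb e.symm) tbc with e | e
  · refine not_two_four tabc ⟨u + v' + w', ?_, by rw [map_add, map_add]⟩
    rw [hnorm, e]
    norm_num
  · rw [e] at hnorm
    rcases norm_cases (u + v' + w') with h0 | h0
    · apply habc0
      rw [← map_add, ← map_add, h0, map_zero]
    · rw [hnorm] at h0
      norm_num at h0

/-! ### Fixed classes and fixed vectors -/

/-- Every fixed class contains a fixed vector. -/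
theorem exists_fixed {g : Co0} (hg : g ^ 5 = 1) {x : L2} (hx : g • x = x) :
    ∃ v : leechLattice, g • v = v ∧ cl v = x := by
  obtain ⟨v, rfl⟩ := cl_surjective x
  have hn : ∀ n : ℕ, cl (g ^ n • v) = cl v := by
    intro n
    induction n with
    | zero => rw [pow_zero, one_smul]
    | succ n ih => rw [pow_succ', mul_smul, ← smul_cl, ih, hx]
  refine ⟨v + g • v + g ^ 2 • v + g ^ 3 • v + g ^ 4 • v, ?_, ?_⟩
  · rw [co0_smul_add, co0_smul_add, co0_smul_add, co0_smul_add, ← mul_smul, ← mul_smul, ← mul_smul, ← mul_smul, ← pow_two,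
      ← pow_succ', ← pow_succ', ← pow_succ', hg, one_smul]
    abel
  · rw [map_add, map_add, map_add, map_add, hn 2, hn 3, hn 4]
    have h1 := hn 1
    rw [pow_one] at h1
    rw [h1, add_self, zero_add, add_self, zero_add]

/-- the fixed classes -/
def fixU (g : Co0) : Submodule (ZMod 2) L2 where
  carrier := {x | g • x = x}
  zero_mem' := smul_zero g
  add_mem' := by
    intro x y hx hy
    change g • (x + y) = x + y
    rw [smul_add, hx, hy]
  smul_mem' := by
    intro c x hx
    rcases zmod2 c with rfl | rfl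
    · rw [zero_smul]; exact smul_zero g
    · rw [one_smul]; exact hx

theorem mem_fixU {g : Co0} {x : L2} : x ∈ fixU g ↔ g • x = x := Iff.rfl

/-- The number of fixed classes, from coordinates which separate the fixed vectors. -/
theorem card_fix_le {g : Co0} (hg : g ^ 5 = 1) {ι : Type} [Fintype ι] (rep : ι → GolayPt)
    (hrep : ∀ v : leechLattice, g • v = v → (∀ i, (v : GolayPt → ℤ) (rep i) = 0) → v = 0) :
    Nat.card ↥(fixU g) ≤ 2 ^ Fintype.card ι := by
  classical
  obtain ⟨k, hk⟩ : ∃ k, Module.finrank (ZMod 2) ↥(fixU g) = k := ⟨_, rfl⟩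
  let b := (Module.finBasis (ZMod 2) ↥(fixU g)).reindex (finCongr hk)
  choose w hw hwc using fun i => exists_fixed hg (b i).2
  let f : Fin k → (ι → ℤ) := fun i j => (w i : GolayPt → ℤ) (rep j)
  -- the coefficients of a relation are divisible by all powers of two
  have hdvd : ∀ n : ℕ, ∀ c : Fin k → ℤ, ∑ i, c i • w i = 0 → ∀ i, (2 : ℤ) ^ n ∣ c i := by
    intro n
    induction n with
    | zero => intro c _ i; rw [pow_zero]; exact one_dvd _
    | succ n ih =>
      intro c hc
      have h2 : ∀ i, (2 : ℤ) ∣ c i := by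
        have h1 : ∑ i, (c i : ZMod 2) • b i = 0 := by
          apply Subtype.ext
          have h3 := congrArg cl hc
          rw [map_sum, map_zero] at h3
          rw [Submodule.coe_sum]
          refine Eq.trans (Finset.sum_congr rfl fun i _ => ?_) h3
          rw [map_zsmul, hwc i, Submodule.coe_smul, Int.cast_smul_eq_zsmul]
        intro i
        have h4 := (linearIndependent_iff'.1 b.linearIndependent) Finset.univ _ h1 i (Finset.mem_univ i)
        exact (ZMod.intCast_zmod_eq_zero_iff_dvd _ 2).1 h4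
      choose c' hc' using h2
      have h5 : ∑ i, c' i • w i = 0 := by
        have h6 : (2 : ℤ) • ∑ i, c' i • w i = 0 := by
          rw [Finset.smul_sum, ← hc]
          refine Finset.sum_congr rfl fun i _ => ?_
          rw [smul_smul, ← hc' i]
        have h7 : ∀ x : leechLattice, (2 : ℤ) • x = 0 → x = 0 := by
          intro x hx
          apply Subtype.ext
          funext i
          have h8 := congrFun (congrArg Subtype.val hx) i
          change (2 : ℤ) • (x : GolayPt → ℤ) i = 0 at h8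
          change (x : GolayPt → ℤ) i = 0
          rw [smul_eq_mul] at h8
          omega
        exact h7 _ h6
      intro i
      rw [pow_succ, mul_comm, hc' i]
      exact mul_dvd_mul_left 2 (ih c' h5 i)
  have hli : LinearIndependent ℤ f := by
    rw [Fintype.linearIndependent_iff]
    intro c hc i
    have h1 : ∑ i, c i • w i = 0 := by
      apply hrep
      · rw [show g • (∑ i, c i • w i) = smulHom g (∑ i, c i • w i) from rfl, map_sum]
        refine Finset.sum_congr rfl fun i _ => ?_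
        rw [map_zsmul]
        change c i • (g • w i) = _
        rw [hw i]
      · intro j
        have h2 := congrFun hc j
        rw [Finset.sum_apply] at h2
        rw [AddSubgroup.val_finsetSum, Finset.sum_apply]
        exact h2
    have h3 := hdvd (c i).natAbs c h1 i
    by_contra hne
    have h4 := Int.natAbs_dvd_natAbs.2 h3
    rw [Int.natAbs_pow] at h4
    have h5 := Nat.le_of_dvd (Int.natAbs_pos.2 hne) h4
    have h6 : (c i).natAbs < 2 ^ (c i).natAbs := Nat.lt_two_pow_self
    exact absurd h5 (not_le.2 h6)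
  have h1 := hli.fintype_card_le_finrank
  rw [Fintype.card_fin, Module.finrank_fintype_fun_eq_card] at h1
  have h2 : Nat.card ↥(fixU g) = 2 ^ k := by
    have : Fintype ↥(fixU g) := Fintype.ofFinite _
    rw [Nat.card_eq_fintype_card, Module.card_eq_pow_finrank (K := ZMod 2), ZMod.card, hk]
  rw [h2]
  exact Nat.pow_le_pow_right (by norm_num) h1

/-! ### Elements of order 5 of `M24` -/

theorem fixed_le {σ : M24} (hσ : orderOf σ = 5) : (MulAction.fixedBy GolayPt σ).ncard ≤ 4 := by
  by_contra hcon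
  push Not at hcon
  obtain ⟨s, hs, hsc⟩ := Set.exists_subset_card_eq (s := MulAction.fixedBy GolayPt σ) (n := 5) (by omega)
  have h5 : MulAction.IsMultiplyPretransitive M24 GolayPt 5 := Cfsg.Agent.S0366.result
  have h1 := h5.index_of_fixingSubgroup_mul hsc
  have h24 : Nat.card GolayPt = 24 := by
    rw [Nat.card_eq_fintype_card]
    rfl
  rw [h24] at h1
  have hM := Cfsg.Agent.S0364.result
  have h2 := (fixingSubgroup M24 s).card_mul_index
  rw [hM] at h2
  have h3 : (fixingSubgroup M24 s).index = 5100480 := by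
    have e1 : (24 - 5 : ℕ).factorial = 121645100408832000 := by decide
    have e2 : (24 : ℕ).factorial = 620448401733239439360000 := by decide
    rw [e1, e2] at h1
    omega
  rw [h3] at h2
  have h4 : Nat.card ↥(fixingSubgroup M24 s) = 48 := by omega
  have hmem : σ ∈ fixingSubgroup M24 s := by
    rw [mem_fixingSubgroup_iff]
    intro y hy
    exact hs hy
  have h6 : orderOf (⟨σ, hmem⟩ : fixingSubgroup M24 s) ∣ Nat.card ↥(fixingSubgroup M24 s) := orderOf_dvd_natCard _
  rw [← Subgroup.orderOf_coe] at h6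
  change orderOf σ ∣ _ at h6
  rw [hσ, h4] at h6
  norm_num at h6

/-- An element of order 5 of `M24` has at most 8 orbits. -/
theorem orbits_le {σ : M24} (hσ : orderOf σ = 5) [Fintype (MulAction.orbitRel.Quotient ↥(Subgroup.zpowers σ) GolayPt)] :
    Fintype.card (MulAction.orbitRel.Quotient ↥(Subgroup.zpowers σ) GolayPt) ≤ 8 := by
  classical
  have hz : Nat.card ↥(Subgroup.zpowers σ) = 5 := by rw [Nat.card_zpowers, hσ]
  have : Finite ↥(Subgroup.zpowers σ) := Nat.finite_of_card_ne_zero (by rw [hz]; norm_num)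
  have : Fintype ↥(Subgroup.zpowers σ) := Fintype.ofFinite _
  have h1 := MulAction.sum_card_fixedBy_eq_card_orbits_mul_card_group ↥(Subgroup.zpowers σ) GolayPt
  have hle : ∀ a : ↥(Subgroup.zpowers σ), a ≠ 1 → Fintype.card (MulAction.fixedBy GolayPt a) ≤ 4 := by
    intro a ha
    have h2 : orderOf (a : M24) = 5 := by
      have h5 : Fact (Nat.Prime 5) := ⟨by norm_num⟩
      apply orderOf_eq_prime
      · have h3 : a ^ Nat.card ↥(Subgroup.zpowers σ) = 1 := pow_card_eq_one'
        rw [hz] at h3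
        exact congrArg Subtype.val h3
      · intro e
        exact ha (Subtype.ext e)
    have h3 := fixed_le h2
    rw [← Nat.card_eq_fintype_card]
    exact h3
  have h2 : ∑ a : ↥(Subgroup.zpowers σ), Fintype.card (MulAction.fixedBy GolayPt a) ≤
      ∑ a : ↥(Subgroup.zpowers σ), if a = 1 then 24 else 4 := by
    refine Finset.sum_le_sum fun a _ => ?_
    split_ifs with h
    · refine (Fintype.card_le_of_injective _ Subtype.val_injective).trans ?_
      exact le_of_eq rfl
    · exact hle a h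
  rw [h1, Finset.sum_ite, Finset.sum_const, Finset.sum_const, Finset.filter_eq', if_pos (Finset.mem_univ _),
    Finset.card_singleton, Finset.filter_ne', Finset.card_erase_of_mem (Finset.mem_univ _), Finset.card_univ,
    ← Nat.card_eq_fintype_card (α := ↥(Subgroup.zpowers σ)), hz] at h2
  simp only [smul_eq_mul] at h2
  have h3 : Fintype.card (MulAction.orbitRel.Quotient ↥(Subgroup.zpowers σ) GolayPt) * 5 ≤ 1 * 24 + (5 - 1) * 4 := by
    refine le_trans (le_of_eq ?_) h2
    congr 1
  omega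

theorem sign_val (c : golayCode) (v : leechLattice) (i : GolayPt) :
    ((signCo0 c • v : leechLattice) : GolayPt → ℤ) i = 0 ↔ (v : GolayPt → ℤ) i = 0 := by
  rw [signCo0_smul, Cfsg.Agent.SporadicA.Co0Mono.signMap_apply]
  unfold Cfsg.Agent.SporadicA.Co0Mono.sgn
  split_ifs <;> simp

/-- A monomial element of order 5 fixes at most `2 ^ 8` classes. -/
theorem mono_le {g : Co0} (hg : orderOf g = 5) (hN : g ∈ N) : Nat.card ↥(fixU g) ≤ 2 ^ 8 := by
  classical
  have hg5 : g ^ 5 = 1 := by rw [← hg, pow_orderOf_eq_one]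
  obtain ⟨c, σ, rfl⟩ := exists_sign_perm hN
  obtain ⟨d, hd⟩ := Cfsg.Agent.SporadicA.Co1Simple.sign_perm_pow c σ 5
  rw [hg5] at hd
  have hσ5 : σ ^ 5 = 1 := Cfsg.Agent.SporadicA.Co1Simple.perm_eq_one hd.symm
  have hσ1 : σ ≠ 1 := by
    rintro rfl
    rw [map_one, mul_one] at hg
    have h1 : orderOf (signCo0 c) ∣ 2 := orderOf_dvd_of_pow_eq_one (by
      rw [pow_two, Cfsg.Agent.SporadicA.Co0Mono.signCo0_mul_self])
    rw [hg] at h1
    norm_num at h1
  have h5 : Fact (Nat.Prime 5) := ⟨by norm_num⟩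
  have hσ : orderOf σ = 5 := orderOf_eq_prime hσ5 hσ1
  have : Fintype (MulAction.orbitRel.Quotient ↥(Subgroup.zpowers σ) GolayPt) := Fintype.ofFinite _
  refine (card_fix_le hg5 (ι := MulAction.orbitRel.Quotient ↥(Subgroup.zpowers σ) GolayPt) Quotient.out ?_).trans
    (Nat.pow_le_pow_right (by norm_num) (orbits_le hσ))
  intro v hv h0
  -- the zeros of `v` are invariant
  have hinv : ∀ j : GolayPt, (v : GolayPt → ℤ) (σ • j) = 0 ↔ (v : GolayPt → ℤ) j = 0 := by
    intro j
    nth_rw 1 [← hv]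
    rw [mul_smul, sign_val, permCo0_smul]
    change (v : GolayPt → ℤ) ((σ : Equiv.Perm GolayPt).symm ((σ : Equiv.Perm GolayPt) j)) = 0 ↔ _
    rw [Equiv.symm_apply_apply]
  have hpow : ∀ (n : ℕ) (j : GolayPt), (v : GolayPt → ℤ) (σ ^ n • j) = 0 ↔ (v : GolayPt → ℤ) j = 0 := by
    intro n
    induction n with
    | zero => intro j; rw [pow_zero, one_smul]
    | succ n ih => intro j; rw [pow_succ', mul_smul, hinv, ih]
  apply Subtype.ext
  funext j
  change (v : GolayPt → ℤ) j = 0
  have h1 := h0 (Quotient.mk'' j)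
  have h2 : (Quotient.out (Quotient.mk'' j : MulAction.orbitRel.Quotient ↥(Subgroup.zpowers σ) GolayPt)) ∈
      MulAction.orbit ↥(Subgroup.zpowers σ) j := by
    rw [← MulAction.orbitRel_apply]
    exact Quotient.mk_out (s := MulAction.orbitRel ↥(Subgroup.zpowers σ) GolayPt) j
  obtain ⟨⟨a, ha⟩, hj⟩ := h2
  have hfin : IsOfFinOrder σ := by
    rw [← orderOf_pos_iff, hσ]
    norm_num
  obtain ⟨n, rfl⟩ := (hfin.mem_powers_iff_mem_zpowers.2 ha)
  rw [← hj] at h1
  exact (hpow n j).1 h1

/-! ### The bound -/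

theorem card_fixU_conj (g h : Co0) : Nat.card ↥(fixU (h * g * h⁻¹)) = Nat.card ↥(fixU g) := by
  refine Nat.card_congr ⟨fun x => ⟨h⁻¹ • (x : L2), ?_⟩, fun x => ⟨h • (x : L2), ?_⟩, fun x => ?_, fun x => ?_⟩
  · have h1 : (h * g * h⁻¹) • (x : L2) = x := x.2
    change g • (h⁻¹ • (x : L2)) = h⁻¹ • (x : L2)
    nth_rw 2 [← h1]
    rw [← mul_smul, ← mul_smul]
    congr 1
    group
  · have h1 : g • (x : L2) = x := x.2
    change (h * g * h⁻¹) • (h • (x : L2)) = h • (x : L2)
    nth_rw 2 [← h1]
    rw [← mul_smul, ← mul_smul]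
    congr 1
    group
  · apply Subtype.ext
    change h • (h⁻¹ • (x : L2)) = x
    rw [smul_inv_smul]
  · apply Subtype.ext
    change h⁻¹ • (h • (x : L2)) = x
    rw [inv_smul_smul]

theorem fix_le0 {g : Co0} (hg : orderOf g = 5) : Nat.card ↥(fixU g) ≤ 2 ^ 8 := by
  by_contra hcon
  push Not at hcon
  have h9 : 2 ^ 9 ≤ Nat.card ↥(fixU g) := by
    have : Fintype ↥(fixU g) := Fintype.ofFinite _
    have h2 : Nat.card ↥(fixU g) = 2 ^ Module.finrank (ZMod 2) ↥(fixU g) := by
      rw [Nat.card_eq_fintype_card, Module.card_eq_pow_finrank (K := ZMod 2), ZMod.card]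
    rw [h2] at hcon ⊢
    have h3 := (Nat.pow_lt_pow_iff_right (by norm_num : 1 < 2)).1 hcon
    exact Nat.pow_le_pow_right (by norm_num) h3
  obtain ⟨x, hx, hx4⟩ := exists_four (U := (fixU g).toAddSubgroup) h9
  obtain ⟨h, hh⟩ := IsType.trans (Or.inr (Or.inr rfl)) hx4 isType_e8
  have hgx : g • x = x := hx
  have h1 : (h * g * h⁻¹) • cl (e8 none) = cl (e8 none) := by
    rw [← hh, ← mul_smul]
    rw [show h * g * h⁻¹ * h = h * g by group, mul_smul, hgx]
  have h2 : h * g * h⁻¹ ∈ N := by
    rw [Cfsg.Agent.MonsterU.CoFrameF.mem_N_iff_congr _ none none]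
    rw [smul_cl] at h1
    obtain ⟨u, hu⟩ := cl_eq.1 h1
    exact ⟨u, by rw [← hu]; abel⟩
  have h3 : orderOf (h * g * h⁻¹) = 5 := by
    rw [← hg]
    exact (orderOf_injective (MulAut.conj h).toMonoidHom (MulAut.conj h).injective g)
  have h4 := mono_le h3 h2
  rw [card_fixU_conj] at h4
  omega

/-- **An element of order 5 of `Co1` fixes at most `2 ^ 8` elements of `Λ / 2Λ`.** -/
theorem fix_le {g : Co1} (hg : orderOf g = 5) : Nat.card {x : L2 // g • x = x} ≤ 2 ^ 8 := by
  obtain ⟨g₁, rfl⟩ := QuotientGroup.mk_surjective g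
  have hc : g₁ ^ 5 ∈ Subgroup.center Co0 := by
    rw [← QuotientGroup.eq_one_iff]
    have h1 : ((QuotientGroup.mk g₁ : Co1)) ^ 5 = 1 := by rw [← hg, pow_orderOf_eq_one]
    exact h1
  have hc2 : (g₁ ^ 5) ^ 2 = 1 := by
    have h1 : (⟨g₁ ^ 5, hc⟩ : Subgroup.center Co0) ^ Nat.card (Subgroup.center Co0) = 1 := pow_card_eq_one'
    rw [Cfsg.Agent.MonsterU.CoFrameF.card_center] at h1
    exact congrArg Subtype.val h1
  have h6 : (QuotientGroup.mk (g₁ ^ 6) : Co1) = QuotientGroup.mk g₁ := by
    have h1 : ((QuotientGroup.mk g₁ : Co1)) ^ 5 = 1 := by rw [← hg, pow_orderOf_eq_one]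
    change ((QuotientGroup.mk g₁ : Co1)) ^ 6 = _
    rw [pow_succ, h1, one_mul]
  have h5 : Fact (Nat.Prime 5) := ⟨by norm_num⟩
  have ho : orderOf (g₁ ^ 6) = 5 := by
    apply orderOf_eq_prime
    · have e : (g₁ ^ 6) ^ 5 = ((g₁ ^ 5) ^ 2) ^ 3 := by
        rw [← pow_mul, ← pow_mul, ← pow_mul]
      rw [e, hc2, one_pow]
    · intro e
      rw [e] at h6
      rw [← h6] at hg
      have h7 : orderOf (QuotientGroup.mk (1 : Co0) : Co1) = 1 := orderOf_one
      rw [h7] at hg
      norm_num at hg
  have h7 := fix_le0 ho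
  refine le_trans (le_of_eq ?_) h7
  refine Nat.card_congr (Equiv.subtypeEquivRight fun x => ?_)
  rw [mem_fixU, ← mk_smul, h6]

end Cfsg.Agent.LThreeM.FiveFix
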