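import Cfsg.Agent.LThreeM.FiTwo
import Cfsg.Agent.KFacts.FiTF.FixZ_m3
import Cfsg.Agent.MonsterN.Local_m3
import Cfsg.Agent.R01.IdentWord
import Cfsg.Agent.S1697
import Cfsg.Agent.MonsterN.LitFin
import Cfsg.Agent.LThreeMB.KPair
import Cfsg.Agent.LThreeMBTr.Main
import Cfsg.Agent.FastGrp
import Cfsg.Agent.Prune
set_option linter.all false

section
prune_inst 0x7f00000000000000000000000000000000000000000000000000000000000000000000000000000000000000000000000000000000000000000000000000000000000000000000000000000000000000003fffffffffffffffffffffffffffbeffbdffffffff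

-- part: LThreeM/FiPar
section
set_option linter.all false
open scoped Cfsg.Agent.FastGrp

-- merged: Cfsg.Agent.LThreeM.FiThree
section

/-!
# Elements of order 3 of `Fi23` (helper44)

`main` : an element of order 3 of the presented group `Fi23` commutes with the product of two or of three distinct
commuting transpositions. `pair_conj`, `triple_conj` : `Fi23` is transitive on the ordered pairs and triples of distinct
commuting transpositions.
-/

set_option autoImplicit false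
set_option linter.unusedSectionVars false
set_option linter.constructorNameAsVariable false
set_option maxRecDepth 10000

namespace Cfsg.Agent.LThreeM.FiThree

open Cfsg Cfsg.Spor Cfsg.Agent.Fischer.Abstract Cfsg.Agent.LThreeM.SrgFix
open Cfsg.Agent.R01 Cfsg.Agent.R01.Lifts Cfsg.Agent.R08.FiTwentyThree
open Cfsg.Agent.Fischer.Fi23Class (K)
open Cfsg.Agent.Fischer.Fi23Z (z0)

open Classical in
/-- the parameter `μ` -/
theorem mu_eq {G X : Type*} [Group G] [MulAction G X] (R : Rank3 G X) [Finite X] {k l m : ℕ}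
    (hk : (nb R R.x0).ncard = k) (hl : (cn R R.x0 R.c).ncard = l)
    (hm : (cn R R.x0 R.b).ncard = m) : (k : ℚ) * k = k + l * k + m * (Nat.card X - 1 - k) := by
  have : Fintype X := Fintype.ofFinite X
  have h1 := A_sq R hk hl hm
  have h2 : A R * A R * Benson.J X = ((k : ℚ) * k) • Benson.J X := by
    rw [mul_assoc, A_mul_J R hk, mul_smul_comm, A_mul_J R hk, smul_smul]
  have h3 : Benson.J X * Benson.J X = (Nat.card X : ℚ) • Benson.J X := by
    ext x y
    rw [Matrix.mul_apply]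
    simp only [Benson.J, _root_.Matrix.of_apply, _root_.mul_one, _root_.Finset.sum_const, _root_.Finset.card_univ, _root_.nsmul_eq_mul, _root_.Nat.card_eq_fintype_card, _root_.Matrix.smul_apply, _root_.smul_eq_mul]
  rw [h1, add_mul, add_mul, smul_mul_assoc, smul_mul_assoc, smul_mul_assoc, sub_mul, sub_mul, one_mul, h3,
    A_mul_J R hk] at h2
  have h4 := congrFun (congrFun h2 R.x0) R.x0
  simp only [Benson.J, Matrix.add_apply, Matrix.sub_apply, Matrix.smul_apply, Matrix.of_apply, smul_eq_mul,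
    mul_one] at h4
  exact h4.symm

/-! ### Transpositions of `Fi22` -/

/-- **Elements of order 3** of `Fi22`. -/
theorem three22 {g : Fi22} (hg : g ^ 3 = 1) :
    ∃ a ∈ Fi22Facts.T, g * a = a * g ∨ (a ≠ g * a * g⁻¹ ∧ a * (g * a * g⁻¹) = (g * a * g⁻¹) * a) := by
  obtain ⟨h, rfl⟩ := Fi22Facts.E.surjective g
  have hh : h ^ 3 = 1 := by
    apply Fi22Facts.E.injective
    rw [map_pow, hg, map_one]
  rcases FiTwo.three hh with ⟨x, hx⟩ | ⟨x, h1, -⟩
  · refine ⟨_, Fi22Facts.mem_T_iff.2 ⟨x, rfl⟩, Or.inl ?_⟩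
    rw [← map_mul, ← map_mul, hx]
  · refine ⟨_, Fi22Facts.mem_T_iff.2 ⟨x, rfl⟩, Or.inr ?_⟩
    rw [Fi22Facts.E_smul]
    constructor
    · intro e
      have h2 := Fi22Facts.E.injective e
      exact h1.1 (Cfsg.Agent.Fischer.Rank22.R.t_injective h2)
    · rw [← map_mul, ← map_mul]
      exact congrArg _ h1.2

/-- the number of the transpositions commuting with a transposition -/
theorem ncard_link {a : Fi22} (ha : a ∈ Fi22Facts.T) :
    {b | b ∈ Fi22Facts.T ∧ b ≠ a ∧ a * b = b * a}.ncard = 693 := by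
  obtain ⟨x, rfl⟩ := Fi22Facts.mem_T_iff.1 ha
  have h : {b | b ∈ Fi22Facts.T ∧ b ≠ Fi22Facts.E (Cfsg.Agent.Fischer.Rank22.R.t x) ∧
      Fi22Facts.E (Cfsg.Agent.Fischer.Rank22.R.t x) * b = b * Fi22Facts.E (Cfsg.Agent.Fischer.Rank22.R.t x)} =
      (fun y => Fi22Facts.E (Cfsg.Agent.Fischer.Rank22.R.t y)) '' nb Cfsg.Agent.Fischer.Rank22.R x := by
    ext b
    constructor
    · rintro ⟨hb, h1, h2⟩
      obtain ⟨y, rfl⟩ := Fi22Facts.mem_T_iff.1 hb
      refine ⟨y, ⟨?_, Fi22Facts.com_iff.1 h2⟩, rfl⟩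
      rintro rfl
      exact h1 rfl
    · rintro ⟨y, ⟨h1, h2⟩, rfl⟩
      refine ⟨Fi22Facts.mem_T_iff.2 ⟨y, rfl⟩, ?_, Fi22Facts.com_iff.2 h2⟩
      intro e
      exact h1 (Cfsg.Agent.Fischer.Rank22.R.t_injective (Fi22Facts.E.injective e)).symm
  rw [h, Set.ncard_image_of_injective, ncard_nb, FiTwo.nb_card]
  intro y y' e
  exact Cfsg.Agent.Fischer.Rank22.R.t_injective (Fi22Facts.E.injective e)

/-! ### The transpositions of `K` -/

theorem ncard_S : S.ncard = 3510 := by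
  rw [← Fi22Facts.ncard_T]
  refine Set.ncard_congr (fun x _ => pi x) (fun x hx => lifted.map x hx) (fun x y hx hy h => lifted.inj x hx y hy h) ?_
  intro b hb
  obtain ⟨x, hx, h⟩ := lifted.surj b hb
  exact ⟨x, hx, h⟩

theorem ncard_link_S {c : K} (hc : c ∈ S) : {x | x ∈ S ∧ x ≠ c ∧ c * x = x * c}.ncard = 693 := by
  rw [← ncard_link (lifted.map c hc)]
  refine Set.ncard_congr (fun x _ => pi x) ?_ ?_ ?_
  · rintro x ⟨hx, h1, h2⟩
    refine ⟨lifted.map x hx, fun h => h1 (lifted.inj x hx c hc h), ?_⟩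
    rw [← map_mul, ← map_mul, h2]
  · intro x y hx hy h
    exact lifted.inj x hx.1 y hy.1 h
  · rintro b ⟨hb, h1, h2⟩
    obtain ⟨x, hx, rfl⟩ := lifted.surj b hb
    refine ⟨x, ⟨hx, fun h => h1 (by rw [h]), ?_⟩, rfl⟩
    exact comm_of_image hc hx h2

section

variable (R : Rank3 Fi23 (Fi23 ⧸ K)) (h0 : R.t R.x0 = z0) (hD : Set.range R.t = D)

include h0 hD in
theorem mem_S_of_adj {y : Fi23 ⧸ K} (h : Adj R R.x0 y) : ∃ k : K, (k : Fi23) = R.t y ∧ k ∈ S := by
  have h1 : R.t y * z0 = z0 * R.t y := by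
    have := h.2
    rw [R.com_def, h0] at this
    exact this.symm
  refine ⟨⟨R.t y, (mem_K_iff _).2 h1⟩, rfl, ?_, ?_⟩
  · rw [← hD]
    exact ⟨y, rfl⟩
  · intro e
    have e' : R.t y = R.t R.x0 := by rw [h0]; exact e
    exact h.1 (R.t_injective e').symm

include h0 hD in
theorem adj_of_mem_S {k : K} (h : k ∈ S) : ∃ y, Adj R R.x0 y ∧ R.t y = k := by
  have h1 : (k : Fi23) ∈ Set.range R.t := by rw [hD]; exact h.1
  obtain ⟨y, hy⟩ := h1
  refine ⟨y, ⟨?_, ?_⟩, hy⟩
  · intro e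
    apply h.2
    rw [← hy, ← e, h0]
  · rw [R.com_def, h0, hy]
    exact ((mem_K_iff _).1 k.2).symm

include h0 hD in
theorem nb_eq : R.t '' nb R R.x0 = Subtype.val '' S := by
  ext e
  constructor
  · rintro ⟨y, hy, rfl⟩
    obtain ⟨k, hk, hk'⟩ := mem_S_of_adj R h0 hD hy
    exact ⟨k, hk', hk⟩
  · rintro ⟨k, hk, rfl⟩
    obtain ⟨y, hy, h⟩ := adj_of_mem_S R h0 hD hk
    exact ⟨y, hy, h⟩

include h0 hD in
theorem nb_card : (nb R R.x0).ncard = 3510 := by
  rw [← Set.ncard_image_of_injective _ R.t_injective, nb_eq R h0 hD,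
    Set.ncard_image_of_injective _ Subtype.val_injective, ncard_S]

include h0 hD in
theorem cn_c : (cn R R.x0 R.c).ncard = 693 := by
  obtain ⟨c, hc, hcS⟩ := mem_S_of_adj R h0 hD (adj_x0_c R)
  have h : R.t '' cn R R.x0 R.c = Subtype.val '' {x | x ∈ S ∧ x ≠ c ∧ c * x = x * c} := by
    ext e
    constructor
    · rintro ⟨y, ⟨hy, hy'⟩, rfl⟩
      obtain ⟨k, hk, hk'⟩ := mem_S_of_adj R h0 hD hy
      refine ⟨k, ⟨hk', ?_, ?_⟩, hk⟩
      · rintro rfl
        apply hy'.1
        apply R.t_injective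
        rw [← hc, hk]
      · apply Subtype.ext
        rw [Subgroup.coe_mul, Subgroup.coe_mul, hk, hc]
        exact hy'.2
    · rintro ⟨k, ⟨hk, h1, h2⟩, rfl⟩
      obtain ⟨y, hy, h⟩ := adj_of_mem_S R h0 hD hk
      refine ⟨y, ⟨hy, ?_, ?_⟩, h⟩
      · rintro rfl
        apply h1
        apply Subtype.ext
        rw [← h, hc]
      · rw [R.com_def, h, ← hc, ← Subgroup.coe_mul, ← Subgroup.coe_mul, h2]
  rw [← Set.ncard_image_of_injective _ R.t_injective, h, Set.ncard_image_of_injective _ Subtype.val_injective,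
    ncard_link_S hcS]

theorem card_X : Nat.card (Fi23 ⧸ K) = 31671 := by
  rw [← Subgroup.index_eq_card]
  exact AlphaFi23.index_K

instance finite_X : Finite (Fi23 ⧸ K) := Nat.finite_of_card_ne_zero (by rw [card_X]; norm_num)

include h0 hD in
theorem cn_b : (cn R R.x0 R.b).ncard = 351 := by
  have h := mu_eq R (nb_card R h0 hD) (cn_c R h0 hD) rfl
  rw [card_X] at h
  have h2 : (((cn R R.x0 R.b).ncard : ℕ) : ℚ) = 351 := by
    push_cast at h
    linarith
  exact_mod_cast h2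

include h0 hD in
theorem exists_w : ∃ w, R.Com R.x0 w ∧ ¬ R.Com R.c w := by
  by_contra hcon
  push Not at hcon
  have h2 : nb R R.x0 ⊆ cn R R.x0 R.c ∪ {R.c} := by
    intro z hz
    by_cases e : R.c = z
    · exact Or.inr e.symm
    · exact Or.inl ⟨hz, e, hcon z hz.2⟩
  have h3 := Set.ncard_le_ncard h2 (Set.toFinite _)
  have h4 := Set.ncard_union_le (cn R R.x0 R.c) {R.c}
  rw [nb_card R h0 hD] at h3
  rw [cn_c R h0 hD, Set.ncard_singleton] at h4
  omega

end

/-! ### Elements of order three -/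

theorem three23 {g : Fi23} (hg : g ^ 3 = 1) : (∃ a ∈ D, g * a = a * g) ∨
    ∃ a ∈ D, ∃ b ∈ D, ∃ c ∈ D, a ≠ b ∧ a ≠ c ∧ b ≠ c ∧ a * b = b * a ∧ a * c = c * a ∧ b * c = c * b ∧
      g * (a * b * c) = (a * b * c) * g := by
  obtain ⟨R, h0, -, hD⟩ := exists_rank3
  rcases SrgFix.three R (nb_card R h0 hD) (cn_c R h0 hD) (cn_b R h0 hD) (s := -9) (by norm_num) (by norm_num)
    (by norm_num) (exists_w R h0 hD) hg with ⟨x, hx⟩ | ⟨x, h1, h2, h3, h4, -⟩
  · exact Or.inl ⟨R.t x, by rw [← hD]; exact ⟨x, rfl⟩, hx⟩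
  · right
    refine ⟨R.t x, by rw [← hD]; exact ⟨x, rfl⟩, R.t (g • x), by rw [← hD]; exact ⟨_, rfl⟩, R.t (g • g • x),
      by rw [← hD]; exact ⟨_, rfl⟩, ?_, ?_, ?_, h1.2, h2.2, h3.2, h4⟩
    · exact fun e => h1.1 (R.t_injective e)
    · exact fun e => h2.1 (R.t_injective e)
    · exact fun e => h3.1 (R.t_injective e)

/-- elements of order 3 of `K` -/
theorem threeK {g : K} (hg : g ^ 3 = 1) : (∃ a ∈ S, g * a = a * g) ∨
    ∃ a ∈ S, ∃ b ∈ S, ∃ c ∈ S, a ≠ b ∧ a ≠ c ∧ b ≠ c ∧ a * b = b * a ∧ a * c = c * a ∧ b * c = c * b ∧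
      g * (a * b * c) = (a * b * c) * g := by
  obtain ⟨a', ha', h⟩ := three22 (g := pi g) (by rw [← map_pow, hg, map_one])
  obtain ⟨a, ha, rfl⟩ := lifted.surj a' ha'
  rcases h with h | ⟨h1, h2⟩
  · left
    refine ⟨a, ha, ?_⟩
    have h3 : g * a * g⁻¹ = a := by
      apply lifted.inj _ (lifted.conj g a ha) _ ha
      rw [map_mul, map_mul, h, map_inv]
      group
    calc g * a = (g * a * g⁻¹) * g := by group
      _ = a * g := by rw [h3]
  · right
    set b := g * a * g⁻¹ with hb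
    set c := g * b * g⁻¹ with hc
    have hbS : b ∈ S := lifted.conj g a ha
    have hcS : c ∈ S := lifted.conj g b hbS
    have hca : g * c * g⁻¹ = a := by
      rw [hc, hb]
      calc g * (g * (g * a * g⁻¹) * g⁻¹) * g⁻¹ = g ^ 3 * a * (g ^ 3)⁻¹ := by
            rw [pow_succ, pow_two]; group
        _ = a := by rw [hg]; group
    have hne : a ≠ b := by
      intro e
      apply h1
      have := congrArg pi e
      rw [hb, map_mul, map_mul, map_inv] at this
      exact this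
    have hab : a * b = b * a := by
      apply comm_of_image ha hbS
      rw [hb, map_mul, map_mul, map_inv]
      exact h2
    have hconj : ∀ {x y : K}, x * y = y * x → (g * x * g⁻¹) * (g * y * g⁻¹) = (g * y * g⁻¹) * (g * x * g⁻¹) := by
      intro x y h
      calc (g * x * g⁻¹) * (g * y * g⁻¹) = g * (x * y) * g⁻¹ := by group
        _ = g * (y * x) * g⁻¹ := by rw [h]
        _ = _ := by group
    have hbc : b * c = c * b := by
      have := hconj hab
      rwa [← hb, ← hc] at this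
    have hcaa : c * a = a * c := by
      have := hconj hbc
      rwa [← hc, hca] at this
    have hne2 : b ≠ c := by
      intro e
      apply hne
      have e2 : g * a * g⁻¹ = g * b * g⁻¹ := by rw [← hb, ← hc]; exact e
      exact mul_left_cancel (mul_right_cancel e2)
    have hne3 : a ≠ c := by
      intro e
      apply hne2
      have e2 : g * c * g⁻¹ = g * b * g⁻¹ := by rw [hca, ← hc]; exact e
      exact (mul_left_cancel (mul_right_cancel e2)).symm
    refine ⟨a, ha, b, hbS, c, hcS, hne, hne3, hne2, hab, hcaa.symm, hbc, ?_⟩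
    calc g * (a * b * c) = (g * a * g⁻¹) * (g * b * g⁻¹) * (g * c * g⁻¹) * g := by group
      _ = b * c * a * g := by rw [← hb, ← hc, hca]
      _ = (a * b * c) * g := by rw [mul_assoc b c a, hcaa, ← mul_assoc b a c, ← hab]

/-- the two kinds of involutions -/
def Pair (s : Fi23) : Prop := ∃ a ∈ D, ∃ b ∈ D, a ≠ b ∧ a * b = b * a ∧ s = a * b

/-- the two kinds of involutions -/
def Triple (s : Fi23) : Prop := ∃ a ∈ D, ∃ b ∈ D, ∃ c ∈ D, a ≠ b ∧ a ≠ c ∧ b ≠ c ∧ a * b = b * a ∧ a * c = c * a ∧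
  b * c = c * b ∧ s = a * b * c

theorem conjD {a : Fi23} (ha : a ∈ D) : ∃ g : Fi23, g * a * g⁻¹ = z0 := by
  obtain ⟨c, hc⟩ := isConj_iff.1 (show IsConj z0 a from ha)
  exact ⟨c⁻¹, by rw [← hc]; group⟩

/-- **Elements of order 3** of `Fi23`. -/
theorem main {g : Fi23} (hg : g ^ 3 = 1) : ∃ s : Fi23, (Pair s ∨ Triple s) ∧ g * s = s * g := by
  rcases three23 hg with ⟨a, ha, h⟩ | ⟨a, ha, b, hb, c, hc, h1, h2, h3, h4, h5, h6, h7⟩
  · obtain ⟨u, hu⟩ := conjD ha
    have hk : u * g * u⁻¹ ∈ K := by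
      rw [mem_K_iff, ← hu]
      calc u * g * u⁻¹ * (u * a * u⁻¹) = u * (g * a) * u⁻¹ := by group
        _ = u * (a * g) * u⁻¹ := by rw [h]
        _ = _ := by group
    have hk3 : (⟨u * g * u⁻¹, hk⟩ : K) ^ 3 = 1 := by
      apply Subtype.ext
      rw [Subgroup.coe_pow, Subgroup.coe_one]
      change (u * g * u⁻¹) ^ 3 = 1
      rw [conj_pow, hg]
      group
    have back : ∀ {s : Fi23}, u * g * u⁻¹ * s = s * (u * g * u⁻¹) → g * (u⁻¹ * s * u) = (u⁻¹ * s * u) * g := by
      intro s hs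
      calc g * (u⁻¹ * s * u) = u⁻¹ * (u * g * u⁻¹ * s) * u := by group
        _ = u⁻¹ * (s * (u * g * u⁻¹)) * u := by rw [hs]
        _ = _ := by group
    have hcD : ∀ {d : Fi23}, d ∈ D → u⁻¹ * d * u ∈ D := by
      intro d hd
      have := conj_mem_D hd u⁻¹
      rwa [inv_inv] at this
    have hinj : ∀ {d e : Fi23}, d ≠ e → u⁻¹ * d * u ≠ u⁻¹ * e * u := by
      intro d e h h'
      exact h (mul_left_cancel (mul_right_cancel h'))
    have hcm : ∀ {d e : Fi23}, d * e = e * d → u⁻¹ * d * u * (u⁻¹ * e * u) = u⁻¹ * e * u * (u⁻¹ * d * u) := by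
      intro d e h
      calc u⁻¹ * d * u * (u⁻¹ * e * u) = u⁻¹ * (d * e) * u := by group
        _ = u⁻¹ * (e * d) * u := by rw [h]
        _ = _ := by group
    rcases threeK hk3 with ⟨e, he, h'⟩ | ⟨e, he, f, hf, c, hc, h1, h2, h3, h4, h5, h6, h7⟩
    · have h1 : u * g * u⁻¹ * (e : Fi23) = e * (u * g * u⁻¹) := congrArg Subtype.val h'
      have h2 : z0 * (e : Fi23) = e * z0 := ((mem_K_iff _).1 e.2).symm
      have h3 : u * g * u⁻¹ * z0 = z0 * (u * g * u⁻¹) := (mem_K_iff _).1 hk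
      refine ⟨u⁻¹ * (z0 * e) * u, Or.inl ⟨u⁻¹ * z0 * u, hcD z0_mem_D, u⁻¹ * e * u, hcD he.1, hinj he.2.symm,
        hcm h2, by group⟩, back ?_⟩
      calc u * g * u⁻¹ * (z0 * (e : Fi23)) = (u * g * u⁻¹ * z0) * e := by group
        _ = z0 * (u * g * u⁻¹ * e) := by rw [h3]; group
        _ = z0 * e * (u * g * u⁻¹) := by rw [h1]; group
    · refine ⟨u⁻¹ * ((e : Fi23) * f * c) * u, Or.inr ⟨u⁻¹ * e * u, hcD he.1, u⁻¹ * f * u, hcD hf.1,
        u⁻¹ * c * u, hcD hc.1, hinj fun h => h1 (Subtype.ext h), hinj fun h => h2 (Subtype.ext h),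
        hinj fun h => h3 (Subtype.ext h), hcm (congrArg Subtype.val h4), hcm (congrArg Subtype.val h5),
        hcm (congrArg Subtype.val h6), by group⟩, back ?_⟩
      exact congrArg Subtype.val h7
  · exact ⟨a * b * c, Or.inr ⟨a, ha, b, hb, c, hc, h1, h2, h3, h4, h5, h6, rfl⟩, h7⟩

/-! ### Transitivity -/

theorem conj_comm {G : Type*} [Group G] (u : G) {d e : G} (h : d * e = e * d) :
    u * d * u⁻¹ * (u * e * u⁻¹) = u * e * u⁻¹ * (u * d * u⁻¹) := by
  calc u * d * u⁻¹ * (u * e * u⁻¹) = u * (d * e) * u⁻¹ := by group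
    _ = u * (e * d) * u⁻¹ := by rw [h]
    _ = _ := by group

theorem conj_ne {G : Type*} [Group G] (u : G) {d e : G} (h : d ≠ e) : u * d * u⁻¹ ≠ u * e * u⁻¹ :=
  fun h' => h (mul_left_cancel (mul_right_cancel h'))

/-- elements of `S` from elements of `D` -/
theorem exists_S {b : Fi23} (hb : b ∈ D) (hne : z0 ≠ b) (h : z0 * b = b * z0) : ∃ k : K, (k : Fi23) = b ∧ k ∈ S :=
  ⟨⟨b, (mem_K_iff _).2 h.symm⟩, rfl, hb, hne.symm⟩

/-- transitivity on the ordered triples `(z0, b, c)` -/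
theorem triple_aux {b c b' c' : Fi23} (hb : b ∈ D) (hc : c ∈ D) (hb' : b' ∈ D) (hc' : c' ∈ D) (n1 : z0 ≠ b)
    (n2 : z0 ≠ c) (n3 : b ≠ c) (n1' : z0 ≠ b') (n2' : z0 ≠ c') (n3' : b' ≠ c') (h1 : z0 * b = b * z0)
    (h2 : z0 * c = c * z0) (h3 : b * c = c * b) (h1' : z0 * b' = b' * z0)
    (h2' : z0 * c' = c' * z0) (h3' : b' * c' = c' * b') :
    ∃ k : Fi23, k * z0 * k⁻¹ = z0 ∧ k * b * k⁻¹ = b' ∧ k * c * k⁻¹ = c' := by
  obtain ⟨b, rfl, hbS⟩ := exists_S hb n1 h1
  obtain ⟨c, rfl, hcS⟩ := exists_S hc n2 h2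
  obtain ⟨b', rfl, hbS'⟩ := exists_S hb' n1' h1'
  obtain ⟨c', rfl, hcS'⟩ := exists_S hc' n2' h2'
  have hbc : b * c = c * b := Subtype.ext h3
  have hbc' : b' * c' = c' * b' := Subtype.ext h3'
  obtain ⟨k', e1, e2⟩ := Fi22Facts.trans_commuting _ (lifted.map b hbS) _ (lifted.map c hcS) _
    (lifted.map b' hbS') _ (lifted.map c' hcS') (fun h => n3 (congrArg Subtype.val (lifted.inj b hbS c hcS h)))
    (fun h => n3' (congrArg Subtype.val (lifted.inj b' hbS' c' hcS' h)))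
    (by unfold Commute SemiconjBy; rw [← map_mul, ← map_mul, hbc])
    (by unfold Commute SemiconjBy; rw [← map_mul, ← map_mul, hbc'])
  obtain ⟨k, rfl⟩ := pi_surjective k'
  have e3 : k * b * k⁻¹ = b' := by
    apply lifted.inj _ (lifted.conj k b hbS) _ hbS'
    rw [map_mul, map_mul, map_inv, e1]
  have e4 : k * c * k⁻¹ = c' := by
    apply lifted.inj _ (lifted.conj k c hcS) _ hcS'
    rw [map_mul, map_mul, map_inv, e2]
  refine ⟨k, ?_, congrArg Subtype.val e3, congrArg Subtype.val e4⟩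
  rw [(mem_K_iff _).1 k.2]
  group

/-- **`Fi23` is transitive on the ordered triples of distinct commuting transpositions.** -/
theorem triple_conj {a b c a' b' c' : Fi23} (ha : a ∈ D) (hb : b ∈ D) (hc : c ∈ D) (ha' : a' ∈ D) (hb' : b' ∈ D)
    (hc' : c' ∈ D) (n1 : a ≠ b) (n2 : a ≠ c) (n3 : b ≠ c) (n1' : a' ≠ b') (n2' : a' ≠ c') (n3' : b' ≠ c')
    (h1 : a * b = b * a) (h2 : a * c = c * a) (h3 : b * c = c * b) (h1' : a' * b' = b' * a')
    (h2' : a' * c' = c' * a') (h3' : b' * c' = c' * b') :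
    ∃ k : Fi23, k * a * k⁻¹ = a' ∧ k * b * k⁻¹ = b' ∧ k * c * k⁻¹ = c' := by
  obtain ⟨u, hu⟩ := conjD ha
  obtain ⟨v, hv⟩ := conjD ha'
  have m1 := conj_ne u n1
  have m2 := conj_ne u n2
  have m3 := conj_ne u n3
  have m1' := conj_ne v n1'
  have m2' := conj_ne v n2'
  have m3' := conj_ne v n3'
  have c1 := conj_comm u h1
  have c2 := conj_comm u h2
  have c3 := conj_comm u h3
  have c1' := conj_comm v h1'
  have c2' := conj_comm v h2'
  have c3' := conj_comm v h3'
  rw [hu] at m1 m2 c1 c2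
  rw [hv] at m1' m2' c1' c2'
  obtain ⟨k, k1, k2, k3⟩ := triple_aux (conj_mem_D hb u) (conj_mem_D hc u) (conj_mem_D hb' v) (conj_mem_D hc' v)
    m1 m2 m3 m1' m2' m3' c1 c2 c3 c1' c2' c3'
  have key : ∀ {x x' : Fi23}, k * (u * x * u⁻¹) * k⁻¹ = v * x' * v⁻¹ →
      (v⁻¹ * k * u) * x * (v⁻¹ * k * u)⁻¹ = x' := by
    intro x x' h
    calc (v⁻¹ * k * u) * x * (v⁻¹ * k * u)⁻¹ = v⁻¹ * (k * (u * x * u⁻¹) * k⁻¹) * v := by group
      _ = x' := by rw [h]; group
  refine ⟨v⁻¹ * k * u, key ?_, key k2, key k3⟩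
  rw [hu, k1, hv]

/-- **`Fi23` is transitive on the ordered pairs of distinct commuting transpositions.** -/
theorem pair_conj {a b a' b' : Fi23} (ha : a ∈ D) (hb : b ∈ D) (ha' : a' ∈ D) (hb' : b' ∈ D)
    (n1 : a ≠ b) (n1' : a' ≠ b') (h1 : a * b = b * a) (h1' : a' * b' = b' * a') :
    ∃ k : Fi23, k * a * k⁻¹ = a' ∧ k * b * k⁻¹ = b' := by
  obtain ⟨R, h0, -, hD⟩ := exists_rank3
  rw [← hD] at ha hb ha' hb'
  obtain ⟨x, rfl⟩ := ha
  obtain ⟨y, rfl⟩ := hb
  obtain ⟨x', rfl⟩ := ha'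
  obtain ⟨y', rfl⟩ := hb'
  obtain ⟨g, rfl, rfl⟩ := exists_adj R (x := x) (y := y) ⟨fun e => n1 (by rw [e]), h1⟩
  obtain ⟨g', rfl, rfl⟩ := exists_adj R (x := x') (y := y') ⟨fun e => n1' (by rw [e]), h1'⟩
  refine ⟨g' * g⁻¹, ?_, ?_⟩
  · rw [R.map_smul, R.map_smul]; group
  · rw [R.map_smul, R.map_smul]; group

end Cfsg.Agent.LThreeM.FiThree

end

-- merged: Cfsg.Agent.LThreeM.FiType
section

/-!
# Elements of order 3 of `2.B` (helper44)

`main` : in a group `B` with the facts `FusionType.Facts` on its involutions, the six-transposition property of the type `A`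
and a homomorphism of `Fi23` mapping the nodes to elements of type `A`, of index prime to 3, every element of
order 3 commutes with an involution of type `Z` or `D`.
-/

set_option autoImplicit false
set_option linter.unusedSectionVars false
set_option linter.constructorNameAsVariable false
set_option maxRecDepth 10000

namespace Cfsg.Agent.LThreeM.FiType

open Cfsg Cfsg.Spor Cfsg.Agent.Fischer.Abstract Cfsg.Agent.LThreeM.FiThree
open Cfsg.Agent.R08.FiTwentyThree Cfsg.Agent.R01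
open Cfsg.Agent.Fischer.Fi23Hom (gen)
open Cfsg.Agent.Fischer.Fi23Class (K)
open Cfsg.Agent.Fischer.Fi23Z (z0)
open Cfsg.Agent.MonsterN

/-! ### The nodes of `Fi23` -/

/-- equal or braiding -/
theorem braid_edge {x y : Fi23.Gen} (h : coxLabel Fi23.edges x y = 3) (hc : gen x * gen y = gen y * gen x) :
    gen x = gen y := by
  have h1 := Cfsg.Agent.Fischer.Fi23Final.gen_rel x y
  rw [h] at h1
  have hx : gen x * gen x = 1 := sq_D (gen_mem_D x)
  have hy : gen y * gen y = 1 := sq_D (gen_mem_D y)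
  have h2 : (gen x * gen y) * (gen x * gen y) = 1 := by
    calc (gen x * gen y) * (gen x * gen y) = gen x * (gen y * gen x) * gen y := by group
      _ = (gen x * gen x) * (gen y * gen y) := by rw [← hc]; group
      _ = 1 := by rw [hx, hy, mul_one]
  have h3 : gen x * gen y = 1 := by
    rw [pow_succ, pow_two, h2, one_mul] at h1
    exact h1
  calc gen x = (gen x * gen y) * (gen y)⁻¹ := by group
    _ = (gen y)⁻¹ := by rw [h3, one_mul]
    _ = gen y := inv_eq_of_mul_eq_one_left hy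

theorem step {x y w : Fi23.Gen} (hy : gen x = gen y) (h1 : coxLabel Fi23.edges x w = 2)
    (h2 : coxLabel Fi23.edges y w = 3) : gen x = gen w := by
  have h3 := Cfsg.Agent.Fischer.Fi23Class.gen_comm x w h1
  rw [hy] at h3
  rw [hy]
  exact braid_edge h2 h3

theorem ne_j {x : Fi23.Gen} (hx : x ≠ .j) : gen x ≠ gen .j := by
  intro e
  apply Cfsg.Agent.Fischer.Fi23Class.z0_ncomm
  rw [← e]
  exact ((mem_K_iff _).1 (Cfsg.Agent.Fischer.Fi23Class.gen_mem_K x hx)).symm

theorem ab_ncomm : gen .a * gen .b ≠ gen .b * gen .a := by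
  intro h
  have e1 := braid_edge (x := .a) (y := .b) (by decide) h
  have e2 := step e1 (w := .c) (by decide) (by decide)
  have e3 := step e2 (w := .d) (by decide) (by decide)
  have e4 := step e3 (w := .e) (by decide) (by decide)
  have e5 := step e4 (w := .f) (by decide) (by decide)
  have e6 := step e5 (w := .g) (by decide) (by decide)
  exact ne_j (by decide) (step e6 (w := .j) (by decide) (by decide))

/-- the chain of nodes -/
def ch : ℕ → Fi23.Gen
  | 0 => .a
  | 1 => .b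
  | 2 => .c
  | 3 => .d
  | 4 => .e
  | _ => .f

/-- the edges of the chain -/
def Ed : List (ℕ × ℕ) := [(0, 1), (1, 2), (2, 3), (3, 4), (4, 5)]

theorem ch_label : ∀ i < 6, ∀ j < 6, i ≠ j →
    (IdentWord.adj Ed i j = true ∧ coxLabel Fi23.edges (ch i) (ch j) = 3) ∨
      (IdentWord.adj Ed i j = false ∧ coxLabel Fi23.edges (ch i) (ch j) = 2) := by decide +kernel

theorem word (ω ω' : List ℕ) (hc : IdentWord.test 6 Ed ω ω' = true) :
    (ω.map fun i => gen (ch i)).prod = (ω'.map fun i => gen (ch i)).prod := by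
  refine IdentWord.word_eq 6 Ed (fun i => gen (ch i)) ?_ ?_ ?_ ω ω' hc
  · intro i _
    exact sq_D (gen_mem_D _)
  · intro i hi j hj hij ha
    rcases ch_label i hi j hj hij with ⟨-, h⟩ | ⟨h, -⟩
    · have h1 := Cfsg.Agent.Fischer.Fi23Final.gen_rel (ch i) (ch j)
      rwa [h] at h1
    · rw [ha] at h
      exact absurd h (by decide)
  · intro i hi j hj hij ha
    rcases ch_label i hi j hj hij with ⟨h, -⟩ | ⟨-, h⟩
    · rw [ha] at h
      exact absurd h (by decide)
    · exact Cfsg.Agent.Fischer.Fi23Class.gen_comm _ _ h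

theorem five : (gen .a * gen .c * (gen .b * gen .d) : Fi23) ^ 5 = 1 := by
  have h := word [0, 2, 1, 3, 0, 2, 1, 3, 0, 2, 1, 3, 0, 2, 1, 3, 0, 2, 1, 3] [] (by decide +kernel)
  simp only [List.map_cons, List.map_nil, List.prod_cons, List.prod_nil, ch, mul_one] at h
  simp only [pow_succ, pow_zero, one_mul, mul_assoc]
  exact h

theorem seven : (gen .a * gen .c * gen .e * (gen .b * gen .d * gen .f) : Fi23) ^ 7 = 1 := by
  have h := word [0, 2, 4, 1, 3, 5, 0, 2, 4, 1, 3, 5, 0, 2, 4, 1, 3, 5, 0, 2, 4, 1, 3, 5, 0, 2, 4, 1, 3, 5,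
    0, 2, 4, 1, 3, 5, 0, 2, 4, 1, 3, 5] [] (by decide +kernel)
  simp only [List.map_cons, List.map_nil, List.prod_cons, List.prod_nil, ch, mul_one] at h
  simp only [pow_succ, pow_zero, one_mul, mul_assoc]
  exact h

theorem five_ne : (gen .a * gen .c * (gen .b * gen .d) : Fi23) ≠ 1 := by
  intro h
  have hac := Cfsg.Agent.Fischer.Fi23Class.gen_comm .a .c (by decide)
  have had := Cfsg.Agent.Fischer.Fi23Class.gen_comm .a .d (by decide)
  apply ab_ncomm
  have h1 : gen .b = (gen .a * gen .c)⁻¹ * (gen .d : Fi23)⁻¹ := by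
    calc gen .b = (gen .a * gen .c)⁻¹ * (gen .a * gen .c * (gen .b * gen .d)) * (gen .d : Fi23)⁻¹ := by group
      _ = _ := by rw [h, mul_one]
  have c1 : Commute (gen .a : Fi23) (gen .a * gen .c) := (Commute.refl _).mul_right hac
  have c2 : Commute (gen .a : Fi23) (gen .d) := had
  rw [h1]
  exact (c1.inv_right.mul_right c2.inv_right).eq

theorem seven_ne : (gen .a * gen .c * gen .e * (gen .b * gen .d * gen .f) : Fi23) ≠ 1 := by
  intro h
  have hb : (gen .b : Fi23) * gen .b = 1 := sq_D (gen_mem_D _)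
  have hac := Cfsg.Agent.Fischer.Fi23Class.gen_comm .a .c (by decide)
  have had := Cfsg.Agent.Fischer.Fi23Class.gen_comm .a .d (by decide)
  have hae := Cfsg.Agent.Fischer.Fi23Class.gen_comm .a .e (by decide)
  have haf := Cfsg.Agent.Fischer.Fi23Class.gen_comm .a .f (by decide)
  apply ab_ncomm
  have h1 : gen .b = (gen .a * gen .c * gen .e)⁻¹ * (gen .d * gen .f : Fi23)⁻¹ := by
    calc gen .b = (gen .a * gen .c * gen .e)⁻¹ * (gen .a * gen .c * gen .e * (gen .b * gen .d * gen .f)) *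
          (gen .d * gen .f : Fi23)⁻¹ := by group
      _ = _ := by rw [h, mul_one]
  have c1 : Commute (gen .a : Fi23) (gen .a * gen .c * gen .e) :=
    ((Commute.refl _).mul_right hac).mul_right hae
  have c2 : Commute (gen .a : Fi23) (gen .d * gen .f) := Commute.mul_right had haf
  rw [h1]
  exact (c1.inv_right.mul_right c2.inv_right).eq

/-! ### Pairs and triples -/

theorem a_ne_c : (gen .a : Fi23) ≠ gen .c := by
  intro e
  have e3 := step e (w := .d) (by decide) (by decide)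
  have e4 := step e3 (w := .e) (by decide) (by decide)
  have e5 := step e4 (w := .f) (by decide) (by decide)
  have e6 := step e5 (w := .g) (by decide) (by decide)
  exact ne_j (by decide) (step e6 (w := .j) (by decide) (by decide))

theorem b_ne_d : (gen .b : Fi23) ≠ gen .d := by
  intro e
  have e4 := step e (w := .e) (by decide) (by decide)
  have e5 := step e4 (w := .f) (by decide) (by decide)
  have e6 := step e5 (w := .g) (by decide) (by decide)
  exact ne_j (by decide) (step e6 (w := .j) (by decide) (by decide))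

theorem a_ne_e : (gen .a : Fi23) ≠ gen .e := by
  intro e
  have e5 := step e (w := .f) (by decide) (by decide)
  have e6 := step e5 (w := .g) (by decide) (by decide)
  exact ne_j (by decide) (step e6 (w := .j) (by decide) (by decide))

theorem c_ne_e : (gen .c : Fi23) ≠ gen .e := by
  intro e
  have e5 := step e (w := .f) (by decide) (by decide)
  have e6 := step e5 (w := .g) (by decide) (by decide)
  exact ne_j (by decide) (step e6 (w := .j) (by decide) (by decide))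

theorem b_ne_f : (gen .b : Fi23) ≠ gen .f := by
  intro e
  have e6 := step e (w := .g) (by decide) (by decide)
  exact ne_j (by decide) (step e6 (w := .j) (by decide) (by decide))

theorem d_ne_f : (gen .d : Fi23) ≠ gen .f := by
  intro e
  have e6 := step e (w := .g) (by decide) (by decide)
  exact ne_j (by decide) (step e6 (w := .j) (by decide) (by decide))

theorem pairs {s : Fi23} (h : Pair s) : IsConj s (gen .a * gen .c) ∧ IsConj s (gen .b * gen .d) := by
  obtain ⟨a, ha, b, hb, hne, hc, rfl⟩ := h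
  constructor
  · obtain ⟨k, e1, e2⟩ := pair_conj ha hb (gen_mem_D .a) (gen_mem_D .c) hne a_ne_c hc
      (Cfsg.Agent.Fischer.Fi23Class.gen_comm _ _ (by decide))
    exact isConj_iff.2 ⟨k, by rw [← e1, ← e2]; group⟩
  · obtain ⟨k, e1, e2⟩ := pair_conj ha hb (gen_mem_D .b) (gen_mem_D .d) hne b_ne_d hc
      (Cfsg.Agent.Fischer.Fi23Class.gen_comm _ _ (by decide))
    exact isConj_iff.2 ⟨k, by rw [← e1, ← e2]; group⟩

theorem triples {s : Fi23} (h : Triple s) : IsConj s (gen .a * gen .c * gen .e) ∧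
    IsConj s (gen .b * gen .d * gen .f) := by
  obtain ⟨a, ha, b, hb, c, hc, n1, n2, n3, h1, h2, h3, rfl⟩ := h
  constructor
  · obtain ⟨k, e1, e2, e3⟩ := triple_conj ha hb hc (gen_mem_D .a) (gen_mem_D .c) (gen_mem_D .e) n1 n2 n3 a_ne_c a_ne_e
      c_ne_e h1 h2 h3 (Cfsg.Agent.Fischer.Fi23Class.gen_comm _ _ (by decide))
      (Cfsg.Agent.Fischer.Fi23Class.gen_comm _ _ (by decide)) (Cfsg.Agent.Fischer.Fi23Class.gen_comm _ _ (by decide))
    exact isConj_iff.2 ⟨k, by rw [← e1, ← e2, ← e3]; group⟩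
  · obtain ⟨k, e1, e2, e3⟩ := triple_conj ha hb hc (gen_mem_D .b) (gen_mem_D .d) (gen_mem_D .f) n1 n2 n3 b_ne_d b_ne_f
      d_ne_f h1 h2 h3 (Cfsg.Agent.Fischer.Fi23Class.gen_comm _ _ (by decide))
      (Cfsg.Agent.Fischer.Fi23Class.gen_comm _ _ (by decide)) (Cfsg.Agent.Fischer.Fi23Class.gen_comm _ _ (by decide))
    exact isConj_iff.2 ⟨k, by rw [← e1, ← e2, ← e3]; group⟩

/-! ### The types -/

section

variable {B : Type*} [Group B] {t f₁ f₂ f₃ f₄ : B} (F : FusionType.Facts t f₁ f₂ f₃ f₄)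
  (six : ∀ a b : B, IsConj f₁ a → IsConj f₁ b → ∃ n : ℕ, 0 < n ∧ n ≤ 6 ∧ (a * b) ^ n = 1)
  {θ : Fi23 →* B} (hθ : Function.Injective θ)

include F in
theorem pow_t {n : ℕ} {w : B} (h : (t * w) ^ n = 1) : w ^ (2 * n) = 1 := by
  have hc : Commute t w := (F.cen w).symm
  have h1 : (t * w) ^ (2 * n) = 1 := by rw [mul_comm, pow_mul, h, one_pow]
  rw [hc.mul_pow, pow_mul t, pow_two, F.t_sq, one_pow, one_mul] at h1
  exact h1

include hθ in
theorem dvd_of_pow {p : ℕ} (hp : p.Prime) {w : Fi23} (h : w ^ p = 1) (h1 : w ≠ 1) {n : ℕ} (hn : θ w ^ n = 1) :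
    p ∣ n := by
  have : Fact p.Prime := ⟨hp⟩
  have h2 : orderOf w = p := orderOf_eq_prime h h1
  have h3 : w ^ n = 1 := by
    apply hθ
    rw [map_pow, hn, map_one]
  rw [← h2]
  exact orderOf_dvd_of_pow_eq_one h3

include F six hθ in
/-- a product of two commuting transpositions is not of type `A` -/
theorem pair_not {s : Fi23} (h : Pair s) : ¬ IsConj f₁ (θ s) := by
  intro hA
  obtain ⟨h1, h2⟩ := pairs h
  have k1 : IsConj f₁ (t * θ (gen .a * gen .c)) :=
    F.a_t.trans (FusionType.conj_mul_t F.cen (hA.trans (θ.map_isConj h1)))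
  have k2 : IsConj f₁ (θ (gen .b * gen .d)) := hA.trans (θ.map_isConj h2)
  obtain ⟨n, hn0, hn6, hn⟩ := six _ _ k1 k2
  rw [mul_assoc, ← map_mul] at hn
  have h3 := dvd_of_pow hθ Nat.prime_five five five_ne (pow_t F hn)
  have h4 : 5 ∣ n := (Nat.Coprime.dvd_of_dvd_mul_left (by norm_num) h3)
  have h5 : n = 5 := by omega
  rw [h5, (show Commute t _ from (F.cen _).symm).mul_pow, ← map_pow, five, map_one, mul_one] at hn
  apply F.t_ne
  calc t = t ^ 5 * ((t * t) * (t * t))⁻¹ := by group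
    _ = 1 := by rw [hn, F.t_sq]; group

include F six hθ in
/-- a product of three commuting transpositions is not of type `A` -/
theorem triple_not {s : Fi23} (h : Triple s) : ¬ IsConj f₁ (θ s) := by
  intro hA
  obtain ⟨h1, h2⟩ := triples h
  have k1 : IsConj f₁ (θ (gen .a * gen .c * gen .e)) := hA.trans (θ.map_isConj h1)
  have k2 : IsConj f₁ (θ (gen .b * gen .d * gen .f)) := hA.trans (θ.map_isConj h2)
  obtain ⟨n, hn0, hn6, hn⟩ := six _ _ k1 k2
  rw [← map_mul] at hn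
  have h3 := dvd_of_pow hθ (by norm_num : Nat.Prime 7) seven seven_ne hn
  have := Nat.le_of_dvd hn0 h3
  omega

theorem sq_of {s : Fi23} (h : Pair s ∨ Triple s) : s * s = 1 := by
  rcases h with ⟨a, ha, b, hb, hne, hc, rfl⟩ | ⟨a, ha, b, hb, c, hc, n1, n2, n3, h1, h2, h3, rfl⟩
  · have h4 := sq_D ha
    have h5 := sq_D hb
    calc a * b * (a * b) = a * (b * a) * b := by group
      _ = (a * a) * (b * b) := by rw [← hc]; group
      _ = 1 := by rw [h4, h5, mul_one]
  · have h4 := sq_D ha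
    have h5 := sq_D hb
    have h6 := sq_D hc
    have hc3 : Commute (a * b) c := Commute.mul_left h2 h3
    calc a * b * c * (a * b * c) = a * b * (c * (a * b)) * c := by group
      _ = a * (b * a) * b * (c * c) := by rw [← hc3.eq]; group
      _ = (a * a) * (b * b) := by rw [← h1, h6]; group
      _ = 1 := by rw [h4, h5, mul_one]

include F hθ in
theorem ne_t {s : Fi23} (h : Pair s ∨ Triple s) : θ s ≠ t ∧ θ s ≠ 1 := by
  have key : (∀ g : Fi23, g * s * g⁻¹ = s) → False := by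
    intro hs
    have hss := sq_of h
    rcases h with h | h
    · obtain ⟨h1, h2⟩ := pairs h
      obtain ⟨g, hg⟩ := isConj_iff.1 h1
      obtain ⟨g', hg'⟩ := isConj_iff.1 h2
      rw [hs] at hg hg'
      apply five_ne
      rw [← hg, ← hg', hss]
    · obtain ⟨h1, h2⟩ := triples h
      obtain ⟨g, hg⟩ := isConj_iff.1 h1
      obtain ⟨g', hg'⟩ := isConj_iff.1 h2
      rw [hs] at hg hg'
      apply seven_ne
      rw [← hg, ← hg', hss]
  constructor
  · intro e
    apply key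
    intro g
    apply hθ
    rw [map_mul, map_mul, map_inv, e, F.cen]
    group
  · intro e
    apply key
    intro g
    apply hθ
    rw [map_mul, map_mul, map_inv, e]
    group

include F six hθ in
/-- **the image of a product of two or three commuting transpositions** -/
theorem type_of {s : Fi23} (h : Pair s ∨ Triple s) : (IsConj (f₁ * f₂) (θ s)) ∨
    IsConj (t * (f₁ * f₂)) (θ s) ∨ IsConj (f₁ * f₂ * f₃) (θ s) := by
  obtain ⟨h1, h2⟩ := ne_t F hθ h
  have h3 : θ s * θ s = 1 := by rw [← map_mul, sq_of h, map_one]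
  rcases F.classes _ h3 h2 h1 with h4 | h4
  · exfalso
    rcases h with h | h
    · exact pair_not F six hθ h h4
    · exact triple_not F six hθ h h4
  · exact h4

include F six hθ in
/-- an element of order 3 of the image of `Fi23` -/
theorem image {x : Fi23} (hx : x ^ 3 = 1) : ∃ s : B, θ x * s = s * θ x ∧
    (IsConj (t * (f₁ * f₂)) s ∨ IsConj (f₁ * f₂ * f₃) s) := by
  obtain ⟨s, hs, hxs⟩ := FiThree.main hx
  have h1 : θ x * θ s = θ s * θ x := by rw [← map_mul, hxs, map_mul]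
  rcases type_of F six hθ hs with h | h | h
  · refine ⟨t * θ s, ?_, Or.inl (FusionType.conj_mul_t F.cen h)⟩
    rw [← mul_assoc, F.cen, mul_assoc, h1, mul_assoc]
  · exact ⟨θ s, h1, Or.inl h⟩
  · exact ⟨θ s, h1, Or.inr h⟩

end

/-! ### Conjugation into the image -/

/-- An element of order 3 is conjugate to an element of a subgroup of index prime to 3. -/
theorem exists_conj {B : Type*} [Group B] [Finite B] (H : Subgroup B) (hH : ¬ 3 ∣ H.index) {x : B} (hx : x ^ 3 = 1) :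
    ∃ g : B, g⁻¹ * x * g ∈ H := by
  have : Fact (Nat.Prime 3) := ⟨Nat.prime_three⟩
  have hP : IsPGroup 3 (Subgroup.zpowers x) := by
    rintro ⟨y, hy⟩
    obtain ⟨m, rfl⟩ := Subgroup.mem_zpowers_iff.1 hy
    refine ⟨1, Subtype.ext ?_⟩
    rw [pow_one, Subgroup.coe_pow, Subgroup.coe_one]
    change (x ^ m) ^ 3 = 1
    rw [← zpow_natCast, ← zpow_mul, mul_comm, zpow_mul, zpow_natCast, hx, one_zpow]
  obtain ⟨q, hq⟩ := hP.nonempty_fixed_point_of_prime_not_dvd_card (B ⧸ H) (by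
    rwa [← Subgroup.index_eq_card])
  obtain ⟨g, rfl⟩ := QuotientGroup.mk_surjective q
  refine ⟨g, ?_⟩
  have h1 := hq ⟨x, Subgroup.mem_zpowers x⟩
  have h2 : ((x * g : B) : B ⧸ H) = (g : B ⧸ H) := h1
  rw [eq_comm, QuotientGroup.eq] at h2
  rwa [← mul_assoc] at h2

/-- **Elements of order 3** of `2.B`. -/
theorem main {B : Type*} [Group B] [Finite B] {t f₁ f₂ f₃ f₄ : B} (F : FusionType.Facts t f₁ f₂ f₃ f₄)
    (six : ∀ a b : B, IsConj f₁ a → IsConj f₁ b → ∃ n : ℕ, 0 < n ∧ n ≤ 6 ∧ (a * b) ^ n = 1)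
    (hcard : ¬ 3 ^ 14 ∣ Nat.card B) {θ : Fi23 →* B} {u₀ : Fi23} (hθ : θ u₀ ≠ 1) {x : B} (hx : x ^ 3 = 1) :
    ∃ s : B, x * s = s * x ∧ (IsConj (t * (f₁ * f₂)) s ∨ IsConj (f₁ * f₂ * f₃) s) := by
  have hsimple : IsSimpleGroup Fi23 := Cfsg.Agent.S1697.result.1
  have hinj : Function.Injective θ := by
    rw [← MonoidHom.ker_eq_bot_iff]
    rcases hsimple.eq_bot_or_eq_top_of_normal θ.ker inferInstance with h | h
    · exact h
    · exfalso
      apply hθ
      have : u₀ ∈ θ.ker := by rw [h]; exact Subgroup.mem_top _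
      exact this
  have hidx : ¬ 3 ∣ θ.range.index := by
    intro hd
    apply hcard
    rw [← Subgroup.card_mul_index θ.range]
    have h1 : Nat.card θ.range = 4089470473293004800 := by
      rw [← Cfsg.Agent.S1697.result.2]
      exact (Nat.card_congr (MonoidHom.ofInjective hinj).toEquiv).symm
    have h2 : 3 ^ 13 ∣ Nat.card θ.range := by rw [h1]; norm_num
    exact Nat.mul_dvd_mul h2 hd
  obtain ⟨g, u, hu⟩ := exists_conj θ.range hidx hx
  have hu3 : u ^ 3 = 1 := by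
    apply hinj
    rw [map_pow, hu, map_one]
    calc (g⁻¹ * x * g) ^ 3 = g⁻¹ * x ^ 3 * g := by
          rw [pow_succ, pow_two, pow_succ x, pow_two]; group
      _ = 1 := by rw [hx]; group
  obtain ⟨s, h1, h2⟩ := image F six hinj hu3
  rw [hu] at h1
  have h3 : IsConj s (g * s * g⁻¹) := isConj_iff.2 ⟨g, rfl⟩
  refine ⟨g * s * g⁻¹, ?_, ?_⟩
  · calc x * (g * s * g⁻¹) = g * (g⁻¹ * x * g * s) * g⁻¹ := by group
      _ = g * (s * (g⁻¹ * x * g)) * g⁻¹ := by rw [h1]
      _ = _ := by group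
  · rcases h2 with h | h
    · exact Or.inl (h.trans h3)
    · exact Or.inr (h.trans h3)

end Cfsg.Agent.LThreeM.FiType

end

-- merged: Cfsg.Agent.LThreeM.FiPar
section

/-!
# Elements of order 3 of the Monster commuting with a `2A`-involution (helper44)

`exists_z` : in the model an element of order 3 commuting with the involution `ι x₀` of an axis commutes with a
conjugate of `z` commuting with `ι x₀`.
-/

set_option autoImplicit false
set_option linter.unusedSectionVars false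
set_option linter.constructorNameAsVariable false
set_option linter.unusedSimpArgs false

open Subgroup

namespace Cfsg.Agent.LThreeM.FiPar

open Cfsg Cfsg.Lie Cfsg.Agent.Bimonster Cfsg.Agent.Bimonster.Tits Cfsg.Agent.BabyU Cfsg.Agent.TwoESix.Cover
open Cfsg.Agent.MonsterX.KSide Cfsg.Agent.MonsterX.KLift Cfsg.Agent.MonsterX.KModel
open Cfsg.Agent.MonsterX.Model Cfsg.Agent.MonsterX.MainPack Cfsg.Agent.MonsterX.MainSimple
open Cfsg.Agent.MonsterX.MainBasic Cfsg.Agent.MonsterU.Assembly Cfsg.Agent.MonsterN.Lit Cfsg.Agent.MonsterN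
open Cfsg.Agent.MonsterN.LitInst Cfsg.Agent.MonsterU.Lam2 Cfsg.Agent.MonsterU.TwoCls

/-- The homomorphism of `Fi23` of a family with the relations. -/
theorem exists_hom {Q : Type*} [Group Q] {v : ℕ → Q} (h : FiRel v) :
    ∃ θ : Spor.Fi23 →* Q, ∀ g : Spor.Fi23.Gen, θ (PresentedGroup.of g) = v (fiIdx g) := by
  have hr : ∀ r ∈ Spor.coxRelators Spor.Fi23.edges ∪ {r | r ∈ Spor.Fi23.extra},
      FreeGroup.lift (fun g => v (fiIdx g)) r = 1 := by
    intro r hr
    rcases hr with ⟨a, -, b, -, rfl⟩ | hr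
    · rw [map_pow, map_mul, FreeGroup.lift_apply_of, FreeGroup.lift_apply_of]
      exact h.cox a b
    · have hr' : r ∈ Spor.Fi23.extra := hr
      rw [Spor.Fi23.extra, List.mem_cons, List.mem_singleton] at hr'
      rcases hr' with rfl | rfl
      · have := h.spider
        rw [map_pow]
        simp only [map_mul, FreeGroup.lift_apply_of, Spor.Fi23.a, Spor.Fi23.b, Spor.Fi23.c, Spor.Fi23.d, Spor.Fi23.e,
          Spor.Fi23.f, Spor.Fi23.h, Spor.Fi23.i, fiIdx]
        simpa only [ev_cons, ev_nil, mul_one, mul_assoc] using this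
      · have := h.e7
        rw [map_pow]
        simp only [map_mul, FreeGroup.lift_apply_of, Spor.Fi23.a, Spor.Fi23.b, Spor.Fi23.c, Spor.Fi23.d, Spor.Fi23.e,
          Spor.Fi23.f, Spor.Fi23.h, Spor.Fi23.i, fiIdx]
        simpa only [ev_cons, ev_nil, mul_one, mul_assoc] using this
  exact ⟨PresentedGroup.toGroup hr, fun g => PresentedGroup.toGroup.of hr⟩

/-- `Fi23` maps nontrivially into every double cover `2.B`. -/
theorem exists_theta {B : Type*} [Group B] {τ : B} (h2 : Nat.card (center B) = 2)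
    (perf : commutator B = ⊤)
    (quot : Nonempty ((B ⧸ center B) ≃* Spor.BabyMonster)) (cen : ∀ x : B, x * τ = τ * x) (hτ : τ ≠ 1) :
    ∃ (θ : Spor.Fi23 →* B) (u₀ : Spor.Fi23), θ u₀ ≠ 1 := by
  obtain ⟨q, hq⟩ := NodesLit.exists_ext h2 quot cen hτ
  obtain ⟨y, hy, h10, hπ, hcl⟩ := LiftB.exists_pre_of_perfect fi_facts hq perf
  obtain ⟨θ, hθ⟩ := exists_hom hy.fiRel
  refine ⟨θ, PresentedGroup.of .j, ?_⟩
  rw [hθ]
  change y 4 ≠ 1
  intro e
  have hy4 : q (y 4) = PresentedGroup.of Spor.BabyMonster.Gen.t1 := hπ .t1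
  rw [e, map_one] at hy4
  have h2 : Nat.card (centralizer ({PresentedGroup.of Spor.BabyMonster.Gen.t1} : Set Spor.BabyMonster)) =
    306129918735099415756800 := BM.KHAll.card_cent .t1
  have h3 : centralizer ({1} : Set Spor.BabyMonster) = ⊤ := by
    rw [eq_top_iff]
    intro x _
    rw [mem_centralizer_singleton_iff, mul_one, one_mul]
  rw [← hy4, h3, card_top, BM.KHAll.card_B] at h2
  norm_num at h2

variable {V P W : Type} [AddCommGroup V] [Module ℚ V] [Group P] [AddCommGroup W] [Module ℚ W]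
  {D : MData V} {M : KS ↥D.G V P W} {x₀ : P} {θ : leechLattice → P} {K₀ : Type} [Group K₀]

/-- **An element of order 3 commuting with `ι x₀` commutes with a conjugate of `z`.** -/
theorem exists_z (A : All D K₀) (H : Link D M x₀) (L : Lift M θ) {τ : D.G} {y' : P}
    (T : Cfsg.Agent.MonsterU.InvTwo.TauHyp M θ ⊤ τ y') {y : ℕ → D.G} (hP : PRel y) (hne : y 0 ≠ y 1)
    (hy : ∃ g : D.G, g * tG A.hG A.hR * g⁻¹ = y 10)
    (hord : ∀ j, ∃ g ∈ D.G, g D.a₀ = D.d j ∧ ∀ h ∈ D.C, ∃ n : ℕ, 0 < n ∧ n ≤ 6 ∧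
      ((h * D.t₀ * h⁻¹) * (g * D.t₀ * g⁻¹)) ^ n = 1)
    {x : D.G} (hx : x ^ 3 = 1) (hc : x * M.ι x₀ = M.ι x₀ * x) :
    ∃ s : D.G, IsConj M.z s ∧ x * s = s * x ∧ s * M.ι x₀ = M.ι x₀ * s := by
  have hfin : Finite D.G := G_finite A.hO
  have hB : Cfsg.IsB Cfsg.Spor.BabyMonster := Cfsg.Agent.S1704.result
  obtain ⟨⟨h1, h2, h3⟩, h43⟩ := ModelB.fieldsKS A H L hP hne hy hB H.x₀_mem
  obtain ⟨f₁, f₂, f₃, f₄, Fc, hcz, hcd, p, hp, hp2, hp2'⟩ := FusInst.exists_facts A H L T H.x₀_mem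
  obtain ⟨φ, u₀, hφ⟩ := exists_theta h1 h2 h3 Fc.cen Fc.t_ne
  have hzm : M.z ∈ BB M x₀ := mem_centralizer_singleton_iff.2 (by
    show M.ι M.zc * M.ι x₀ = M.ι x₀ * M.ι M.zc
    rw [← map_mul, ← map_mul, M.zc_comm])
  obtain ⟨k, hk⟩ := ModelB.exists_conj_t A.hG A.hR H L ((mem_Sh_iff L p).2 hp2)
  have hf₁ : IsConj (tG A.hG A.hR) ((f₁ : BB M x₀) : D.G) := by
    rw [hp]
    exact isConj_iff.2 ⟨k, hk⟩
  have six : ∀ a b : BB M x₀, IsConj f₁ a → IsConj f₁ b → ∃ n : ℕ, 0 < n ∧ n ≤ 6 ∧ (a * b) ^ n = 1 := by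
    intro a b ha hb
    obtain ⟨g, hg⟩ := isConj_iff.1 (hf₁.trans ((BB M x₀).subtype.map_isConj ha))
    obtain ⟨g', hg'⟩ := isConj_iff.1 (hf₁.trans ((BB M x₀).subtype.map_isConj hb))
    have h6 := Cfsg.Agent.MonsterX.MainPack.six A.hG A.hR A.hL A.hO A.hT hord (g⁻¹ * g')
    refine ⟨orderOf (tG A.hG A.hR * (g⁻¹ * g' * tG A.hG A.hR * (g⁻¹ * g')⁻¹)), orderOf_pos _, h6, Subtype.ext ?_⟩
    rw [coe_pow, coe_mul, coe_one]
    have e : ((a : BB M x₀) : D.G) * ((b : BB M x₀) : D.G) =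
        g * (tG A.hG A.hR * (g⁻¹ * g' * tG A.hG A.hR * (g⁻¹ * g')⁻¹)) * g⁻¹ := by
      change (BB M x₀).subtype a * (BB M x₀).subtype b = _
      rw [← hg, ← hg']
      group
    rw [e, conj_pow, pow_orderOf_eq_one]
    group
  have hcard : ¬ 3 ^ 14 ∣ Nat.card (BB M x₀) := by
    have h4 : Nat.card (centralizer ({M.ι x₀} : Set D.G)) = 2 * 4154781481226426191177580544000000 :=
      ModelB.card_cent A (ModelB.exists_conj_t A.hG A.hR H L H.x₀_mem)
    change ¬ 3 ^ 14 ∣ Nat.card (centralizer ({M.ι x₀} : Set D.G))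
    rw [h4]
    norm_num
  obtain ⟨s, hs1, hs2⟩ := FiType.main Fc six hcard hφ (x := (⟨x, mem_centralizer_singleton_iff.2 hc⟩ : BB M x₀))
    (Subtype.ext hx)
  refine ⟨(s : D.G), ?_, congrArg Subtype.val hs1, mem_centralizer_singleton_iff.1 s.2⟩
  rcases hs2 with h | h
  · exact (BB M x₀).subtype.map_isConj ((hcz hzm).symm.trans h)
  · exact hcd.trans (((BB M x₀).subtype.map_isConj h :))

/-- **An element of order 3 commuting with an involution commutes with a conjugate of `z`.** -/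
theorem exists_z_of_comm (A : All D K₀) (H : Link D M x₀) (L : Lift M θ) {τ : D.G} {y' : P}
    (T : Cfsg.Agent.MonsterU.InvTwo.TauHyp M θ ⊤ τ y') {y : ℕ → D.G} (hP : PRel y) (hne : y 0 ≠ y 1)
    (hy : ∃ g : D.G, g * tG A.hG A.hR * g⁻¹ = y 10)
    (hord : ∀ j, ∃ g ∈ D.G, g D.a₀ = D.d j ∧ ∀ h ∈ D.C, ∃ n : ℕ, 0 < n ∧ n ≤ 6 ∧
      ((h * D.t₀ * h⁻¹) * (g * D.t₀ * g⁻¹)) ^ n = 1)
    {x v : D.G} (hx : x ^ 3 = 1) (hv : v * v = 1) (hv1 : v ≠ 1) (hc : x * v = v * x) :
    ∃ g : D.G, (g * M.z * g⁻¹) * x = x * (g * M.z * g⁻¹) := by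
  have hz : M.z = zG A.hG := Subtype.ext H.z_eq.symm
  rcases A.classes v hv hv1 with ⟨h, hh⟩ | ⟨h, hh⟩
  · refine ⟨h, ?_⟩
    rw [hz, hh, hc]
  · obtain ⟨k, hk⟩ := ModelB.exists_conj_t A.hG A.hR H L H.x₀_mem
    -- `c v c⁻¹ = ι x₀`
    have hcv : (k * h⁻¹) * v * (k * h⁻¹)⁻¹ = M.ι x₀ := by
      rw [← hk, ← hh]
      group
    set c := k * h⁻¹ with hcdef
    have h1 : (c * x * c⁻¹) * M.ι x₀ = M.ι x₀ * (c * x * c⁻¹) := by
      rw [← hcv]
      calc c * x * c⁻¹ * (c * v * c⁻¹) = c * (x * v) * c⁻¹ := by group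
        _ = c * (v * x) * c⁻¹ := by rw [hc]
        _ = _ := by group
    have h2 : (c * x * c⁻¹) ^ 3 = 1 := by rw [conj_pow, hx]; group
    obtain ⟨s, hs, hs2, -⟩ := exists_z A H L T hP hne hy hord h2 h1
    obtain ⟨g, hg⟩ := isConj_iff.1 hs
    refine ⟨c⁻¹ * g, ?_⟩
    have e : c⁻¹ * g * M.z * (c⁻¹ * g)⁻¹ = c⁻¹ * s * c := by rw [← hg]; group
    rw [e]
    calc c⁻¹ * s * c * x = c⁻¹ * (s * (c * x * c⁻¹)) * c := by group
      _ = c⁻¹ * (c * x * c⁻¹ * s) * c := by rw [hs2]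
      _ = x * (c⁻¹ * s * c) := by group

/-- **An element of order 3 commuting with a conjugate `v` of `ι x₀` commutes with a conjugate of `z` commuting with
`v`.** -/
theorem exists_z_in (A : All D K₀) (H : Link D M x₀) (L : Lift M θ) {τ : D.G} {y' : P}
    (T : Cfsg.Agent.MonsterU.InvTwo.TauHyp M θ ⊤ τ y') {y : ℕ → D.G} (hP : PRel y) (hne : y 0 ≠ y 1)
    (hy : ∃ g : D.G, g * tG A.hG A.hR * g⁻¹ = y 10)
    (hord : ∀ j, ∃ g ∈ D.G, g D.a₀ = D.d j ∧ ∀ h ∈ D.C, ∃ n : ℕ, 0 < n ∧ n ≤ 6 ∧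
      ((h * D.t₀ * h⁻¹) * (g * D.t₀ * g⁻¹)) ^ n = 1)
    {x v : D.G} (hx : x ^ 3 = 1) (hv : IsConj (M.ι x₀) v) (hc : x * v = v * x) :
    ∃ g : D.G, (g * M.z * g⁻¹) * x = x * (g * M.z * g⁻¹) ∧ (g * M.z * g⁻¹) * v = v * (g * M.z * g⁻¹) := by
  obtain ⟨c, hcv⟩ := isConj_iff.1 hv.symm
  have h1 : (c * x * c⁻¹) * M.ι x₀ = M.ι x₀ * (c * x * c⁻¹) := by
    rw [← hcv]
    calc c * x * c⁻¹ * (c * v * c⁻¹) = c * (x * v) * c⁻¹ := by group
      _ = c * (v * x) * c⁻¹ := by rw [hc]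
      _ = _ := by group
  have h2 : (c * x * c⁻¹) ^ 3 = 1 := by rw [conj_pow, hx]; group
  obtain ⟨s, hs, hs2, hs3⟩ := exists_z A H L T hP hne hy hord h2 h1
  obtain ⟨g, hg⟩ := isConj_iff.1 hs
  refine ⟨c⁻¹ * g, ?_, ?_⟩
  · have e : c⁻¹ * g * M.z * (c⁻¹ * g)⁻¹ = c⁻¹ * s * c := by rw [← hg]; group
    rw [e]
    calc c⁻¹ * s * c * x = c⁻¹ * (s * (c * x * c⁻¹)) * c := by group
      _ = c⁻¹ * (c * x * c⁻¹ * s) * c := by rw [hs2]
      _ = x * (c⁻¹ * s * c) := by group
  · have e : c⁻¹ * g * M.z * (c⁻¹ * g)⁻¹ = c⁻¹ * s * c := by rw [← hg]; group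
    rw [e]
    calc c⁻¹ * s * c * v = c⁻¹ * (s * (c * v * c⁻¹)) * c := by group
      _ = c⁻¹ * (c * v * c⁻¹ * s) * c := by rw [hcv, hs3]
      _ = v * (c⁻¹ * s * c) := by group

/-- **An element of order 3 with centralizer of even order commutes with a conjugate of `z`.** -/
theorem exists_z_of_even (A : All D K₀) (H : Link D M x₀) (L : Lift M θ) {τ : D.G} {y' : P}
    (T : Cfsg.Agent.MonsterU.InvTwo.TauHyp M θ ⊤ τ y') {y : ℕ → D.G} (hP : PRel y) (hne : y 0 ≠ y 1)
    (hy : ∃ g : D.G, g * tG A.hG A.hR * g⁻¹ = y 10)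
    (hord : ∀ j, ∃ g ∈ D.G, g D.a₀ = D.d j ∧ ∀ h ∈ D.C, ∃ n : ℕ, 0 < n ∧ n ≤ 6 ∧
      ((h * D.t₀ * h⁻¹) * (g * D.t₀ * g⁻¹)) ^ n = 1)
    {x : D.G} (hx : orderOf x = 3) (he : ¬ Odd (Nat.card (centralizer ({x} : Set D.G)))) :
    ∃ g : D.G, (g * M.z * g⁻¹) * x = x * (g * M.z * g⁻¹) := by
  have hfin : Finite D.G := G_finite A.hO
  have hx3 : x ^ 3 = 1 := by rw [← hx]; exact pow_orderOf_eq_one x
  have : Fact (Nat.Prime 2) := ⟨Nat.prime_two⟩
  have h2 : 2 ∣ Nat.card (centralizer ({x} : Set D.G)) := by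
    rw [Nat.not_odd_iff_even] at he
    exact he.two_dvd
  obtain ⟨v, hv⟩ := exists_prime_orderOf_dvd_card' (G := centralizer ({x} : Set D.G)) 2 h2
  have hv2 : (v : D.G) * v = 1 := by
    have h3 : v ^ 2 = 1 := by rw [← hv]; exact pow_orderOf_eq_one v
    rw [pow_two] at h3
    exact congrArg Subtype.val h3
  have hv1 : (v : D.G) ≠ 1 := by
    intro e
    have h3 : v = 1 := Subtype.ext e
    rw [h3, orderOf_one] at hv
    norm_num at hv
  exact exists_z_of_comm A H L T hP hne hy hord hx3 hv2 hv1 (mem_centralizer_singleton_iff.1 v.2).symm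

end Cfsg.Agent.LThreeM.FiPar

end

private theorem dce_dafa3b0273ee : _root_.True := by
  try have : _root_.True := by simp only [_root_.Cfsg.Agent.LThreeM.FiType.ch.eq_1]
  try have : _root_.True := by simp only [_root_.Cfsg.Agent.LThreeM.FiType.ch.eq_def]
  try have : _root_.True := by simp only [_root_.Cfsg.Agent.LThreeM.FiType.ch.eq_5]
  try have : _root_.True := by simp only [_root_.Cfsg.Agent.LThreeM.FiType.ch.eq_2]
  try have : _root_.True := by simp only [_root_.Cfsg.Agent.LThreeM.FiType.ch.eq_3]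
  try have : _root_.True := by simp only [_root_.Cfsg.Agent.LThreeM.FiType.ch.eq_4]
  try have : _root_.True := by simp only [_root_.Cfsg.Agent.LThreeM.FiType.ch.eq_6]
  exact _root_.True.intro
end

-- part: LThreeM/FiRow_mg
section
set_option linter.all false
open scoped Cfsg.Agent.FastGrp

-- part: LThreeM/FiRow
section
/-!
# Elements of order 3 of the Monster (helper44)

`exists_z_of_even` : in the concrete model an element of order 3 with a centralizer of even order commutes with a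
conjugate of `z`.
-/

set_option autoImplicit false
set_option maxRecDepth 100000

namespace Cfsg.Agent.LThreeM.FiRow

open Cfsg Cfsg.Agent.MonsterX Cfsg.Agent.MonsterX.InstData Cfsg.Agent.MonsterX.MainPack Cfsg.Agent.MonsterU
open Cfsg.Agent.MonsterP Cfsg.Agent.MonsterN

/-- **An element of order 3 of the model commuting with an involution commutes with a conjugate of `z`.** -/
theorem exists_z_of_comm {x v : ↥InstData.M.G} (hx : x ^ 3 = 1) (hv : v * v = 1) (hv1 : v ≠ 1) (hc : x * v = v * x) :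
    ∃ g : ↥InstData.M.G, (g * KDone.K.z * g⁻¹) * x = x * (g * KDone.K.z * g⁻¹) :=
  FiPar.exists_z_of_comm LitFin.all KDone.lnk KDone.lft
    (TauInst.tauHyp (Final.cent InstanceFinal.mOrbit Instance.mTrans)) (NodesGrp.prel LitFin.H)
    (NodesNe.ne LitFin.H) LitFin.conj_ten InstanceFinal.mExtra.order_le hx hv hv1 hc

/-- **An element of order 3 of the model with a centralizer of even order commutes with a conjugate of `z`.** -/
theorem exists_z_of_even {x : ↥InstData.M.G} (hx : orderOf x = 3)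
    (he : ¬ Odd (Nat.card (Subgroup.centralizer ({x} : Set ↥InstData.M.G)))) :
    ∃ g : ↥InstData.M.G, (g * KDone.K.z * g⁻¹) * x = x * (g * KDone.K.z * g⁻¹) :=
  FiPar.exists_z_of_even LitFin.all KDone.lnk KDone.lft
    (TauInst.tauHyp (Final.cent InstanceFinal.mOrbit Instance.mTrans)) (NodesGrp.prel LitFin.H)
    (NodesNe.ne LitFin.H) LitFin.conj_ten InstanceFinal.mExtra.order_le hx he

/-- **An element of order 3 of the model commuting with a `2A`-involution `v` commutes with a conjugate of `z` which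
commutes with `v`.** -/
theorem exists_z_in {x v : ↥InstData.M.G} (hx : x ^ 3 = 1) (hv : IsConj (tG LitFin.all.hG LitFin.all.hR) v)
    (hc : x * v = v * x) :
    ∃ g : ↥InstData.M.G, (g * KDone.K.z * g⁻¹) * x = x * (g * KDone.K.z * g⁻¹) ∧
      (g * KDone.K.z * g⁻¹) * v = v * (g * KDone.K.z * g⁻¹) := by
  obtain ⟨k, hk⟩ := ModelB.exists_conj_t LitFin.all.hG LitFin.all.hR KDone.lnk KDone.lft KDone.lnk.x₀_mem
  exact FiPar.exists_z_in LitFin.all KDone.lnk KDone.lft
    (TauInst.tauHyp (Final.cent InstanceFinal.mOrbit Instance.mTrans)) (NodesGrp.prel LitFin.H)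
    (NodesNe.ne LitFin.H) LitFin.conj_ten InstanceFinal.mExtra.order_le hx
    ((isConj_iff.2 ⟨k, hk⟩ : IsConj _ _).symm.trans hv) hc

end Cfsg.Agent.LThreeM.FiRow
end

-- part: LThreeMBTr/Adapt
section
/-!
# The inputs `TraceNe` and `Second` of `LThreeMB`
-/

set_option autoImplicit false

namespace Cfsg.Agent.LThreeMBTr

open Cfsg Cfsg.Agent.MonsterX.KSide Cfsg.Agent.MonsterX.KLift

universe u

variable {G : Type u} {V P W : Type*} [Group G] [AddCommGroup V] [Module ℚ V]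
  [DistribMulAction G V] [SMulCommClass G ℚ V] [Group P] [AddCommGroup W] [Module ℚ W]
  {M : KS G V P W} {θ : leechLattice → P}

theorem cube {x : G} (h : x ^ 3 = 1) : x * x * x = 1 := by rw [← h, pow_succ, pow_two]

/-- The input `TraceNe` of `LThreeMB.KPair`. -/
theorem traceNe (L : Lift M θ) (H : Tens M) : LThreeMB.KPair.TraceNe M := by
  intro x x₁ y g hx hx₁ h3 h31 _ _ hf hf1 hy hyy hy1 hyz hxy
  exact trace_ne L H hx (cube h3) hf hx₁ (cube h31) hf1 hy hyy hy1 hyz hxy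

/-- The input `Second` of `LThreeMB.KPair`, from the two classes of involutions. -/
theorem second (L : Lift M θ) (H : Tens M) {t : G}
    (two : ∀ u : G, u * u = 1 → u ≠ 1 → (∃ g, g * M.z * g⁻¹ = u) ∨ ∃ g, g * t * g⁻¹ = u) :
    LThreeMB.KPair.Second M := by
  intro x k c hx h3 _ hf hk hc hkI hxk
  exact exists_second L H two hx (cube h3) hf hk hc hkI hxk

end Cfsg.Agent.LThreeMBTr
end
end
end
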