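import Mathlib
import Cfsg.Agent.Lib.CoprimeHyperplane
import Cfsg.Agent.OddOrderCharacters.Wielandt
import Cfsg.Prelude.Def_EvenType
import Cfsg.Agent.MonsterU.TwoQ
import Cfsg.Agent.LThreeM.FiveFix
import Cfsg.Agent.MonsterN.LitFin
import Cfsg.Agent.H850.MonSub
import Cfsg.Agent.SigTab.RestList_m3
import Cfsg.Agent.FastGrp
import Cfsg.Agent.Prune
set_option linter.all false

section
prune_inst 0x7ffcfefbeff8bddfffff7e7ffffddffdf9fcffffefdff9fbffedffffbfff6b67ebe5fbafefecd8febef7e23c10f87b53ffffeabfe36fdd7ffffd5ff45fffff9fffffbf0d71ffbcbe1ffe6ffffbfb7fae7f3fffffffffffffffffffffffffffffffffffffffff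

-- part: LThreeM/SigAbs_mg
section
prune_inst 0x100001004400000000000000000000000000010000000000000004000108000000000000000014000008000000000000000000800000000000000000000000000008000000000000010000000005180c00000000000000000000000000000000000000000
set_option linter.all false
open scoped Cfsg.Agent.FastGrp

-- part: LThreeM/FiveAbs
section
/-!
# Elementary abelian 5-groups acting on an elementary abelian group of order `2 ^ 24` (helper44)

`V` is an abelian normal subgroup of order `2 ^ 24` of `L` with `C_L(V) ≤ V`, and `|C_V(x)| ≤ 2 ^ 8` for the elements `x` of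
order 5 of `L` (in use: `L = C_M(z) / ⟨z⟩`, `V = O_2(L)`, `L / V ≅ Co₁`). Then an elementary abelian subgroup `A` of
order `5 ^ 3` of `L` fixes no nontrivial element of `V` and commutes with no involution of `L`, and `L` has no
elementary abelian subgroup of order `5 ^ 4`.
-/

set_option autoImplicit false
set_option linter.unusedSectionVars false

namespace Cfsg.Agent.LThreeM.FiveAbs

open Subgroup Cfsg

variable {L : Type*} [Group L] [Finite L]

/-- A `p`-group `A` normalising `D` : `|D| ≡ |C_D(A)|`. -/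
theorem card_modEq {p : ℕ} [Fact p.Prime] {A D : Subgroup L} (hA : IsPGroup p ↥A)
    (hAD : ∀ a ∈ A, ∀ d ∈ D, a * d * a⁻¹ ∈ D) :
    Nat.card ↥D ≡ Nat.card ↥(D ⊓ centralizer (A : Set L)) [MOD p] := by
  let act : MulAction ↥A ↥D :=
    { smul := fun a d => ⟨(a : L) * d * (a : L)⁻¹, hAD a a.2 d d.2⟩
      one_smul := fun d => Subtype.ext (by change (1 : L) * d * (1 : L)⁻¹ = d; group)
      mul_smul := fun a b d => Subtype.ext (by
        change ((a : L) * b) * d * ((a : L) * b)⁻¹ = a * (b * d * (b : L)⁻¹) * (a : L)⁻¹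
        group) }
  have h1 := hA.card_modEq_card_fixedPoints (α := ↥D)
  have h2 : Nat.card (MulAction.fixedPoints ↥A ↥D) = Nat.card ↥(D ⊓ centralizer (A : Set L)) := by
    refine Nat.card_congr ⟨fun d => ⟨((d : ↥D) : L), (d : ↥D).2, ?_⟩, fun d => ⟨⟨d, d.2.1⟩, ?_⟩, ?_, ?_⟩
    · refine mem_centralizer_iff.2 ?_
      intro a ha
      have h3 := congrArg Subtype.val (d.2 ⟨a, ha⟩)
      change a * ((d : ↥D) : L) * a⁻¹ = ((d : ↥D) : L) at h3
      exact mul_inv_eq_iff_eq_mul.1 h3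
    · rintro ⟨a, ha⟩
      apply Subtype.ext
      change a * (d : L) * a⁻¹ = (d : L)
      rw [mem_centralizer_iff.1 d.2.2 a ha, mul_inv_cancel_right]
    · intro d; rfl
    · intro d; rfl
  rw [h2] at h1
  exact h1

theorem isPGroup_of_elab {p : ℕ} {A : Subgroup L} (hA : IsElementaryAbelian p A) : IsPGroup p ↥A := fun a =>
  ⟨1, by rw [pow_one]; exact Subtype.ext (hA.2 a a.2)⟩

theorem elab_le {p : ℕ} {A B : Subgroup L} (hA : IsElementaryAbelian p A) (h : B ≤ A) : IsElementaryAbelian p B :=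
  ⟨⟨⟨fun a b => Subtype.ext (congrArg (fun x : ↥A => (x : L)) (hA.1.is_comm.comm ⟨a, h a.2⟩ ⟨b, h b.2⟩))⟩⟩,
    fun a ha => hA.2 a (h ha)⟩

theorem two_pow_mod {k : ℕ} (h : 2 ^ k ≡ 1 [MOD 5]) : 4 ∣ k := by
  obtain ⟨m, r, hr, rfl⟩ : ∃ m r, r < 4 ∧ k = 4 * m + r := ⟨k / 4, k % 4, Nat.mod_lt _ (by norm_num), by omega⟩
  have h1 : (2 : ℕ) ^ (4 * m + r) ≡ 2 ^ r [MOD 5] := by
    rw [pow_add, pow_mul]
    have h2 : (2 ^ 4 : ℕ) ≡ 1 [MOD 5] := by decide
    have h3 := (h2.pow m).mul_right (2 ^ r)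
    rwa [one_pow, one_mul] at h3
  have h2 := h1.symm.trans h
  interval_cases r
  · omega
  all_goals exact absurd h2 (by decide)

/-- the subgroups of order 5 of `A` -/
abbrev Lines (A : Subgroup L) := {B : Subgroup L // B ≤ A ∧ Nat.card ↥B = 5}

theorem card_lines_mem {A : Subgroup L} (hA : IsElementaryAbelian 5 A) {f : L} (hf : f ∈ A) (hf1 : f ≠ 1) :
    Nat.card {B : Lines A // f ∈ (B : Subgroup L)} = 1 := by
  have h5 : Fact (Nat.Prime 5) := ⟨by norm_num⟩
  have ho : orderOf f = 5 := orderOf_eq_prime (hA.2 f hf) hf1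
  have hz : Nat.card ↥(zpowers f) = 5 := by rw [Nat.card_zpowers, ho]
  rw [Nat.card_eq_one_iff_unique]
  refine ⟨⟨?_⟩, ⟨⟨⟨zpowers f, zpowers_le.2 hf, hz⟩, mem_zpowers f⟩⟩⟩
  rintro ⟨⟨B, hB, hBc⟩, hfB⟩ ⟨⟨B', hB', hBc'⟩, hfB'⟩
  have e1 : zpowers f = B := eq_of_le_of_card_ge (zpowers_le.2 hfB) (by rw [hz, hBc])
  have e2 : zpowers f = B' := eq_of_le_of_card_ge (zpowers_le.2 hfB') (by rw [hz, hBc'])
  apply Subtype.ext
  apply Subtype.ext
  exact e1.symm.trans e2

/-- `4 · #lines + 1 = |A|` -/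
theorem card_lines {A : Subgroup L} (hA : IsElementaryAbelian 5 A) :
    4 * Nat.card (Lines A) + 1 = Nat.card ↥A := by
  classical
  have : Fintype (Lines A) := Fintype.ofFinite _
  have : Fintype ↥A := Fintype.ofFinite _
  -- the nontrivial elements of `A` are the nontrivial elements of the lines
  let e : (Σ B : Lines A, {x : ↥(B : Subgroup L) // x ≠ 1}) ≃ {x : ↥A // x ≠ 1} :=
    Equiv.ofBijective (fun s => ⟨⟨((s.2 : ↥(s.1 : Subgroup L)) : L), s.1.2.1 (s.2 : ↥(s.1 : Subgroup L)).2⟩, by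
      intro h
      apply s.2.2
      apply Subtype.ext
      exact congrArg (fun x : ↥A => (x : L)) h⟩) (by
      constructor
      · rintro ⟨B, ⟨x, hx⟩, hx1⟩ ⟨B', ⟨y, hy⟩, hy1⟩ h
        have hxy : x = y := congrArg (fun s : {x : ↥A // x ≠ 1} => ((s : ↥A) : L)) h
        subst hxy
        have hxA := B.2.1 hx
        have hx1' : x ≠ 1 := fun e => hx1 (Subtype.ext e)
        have h1 := card_lines_mem hA hxA hx1'
        rw [Nat.card_eq_one_iff_unique] at h1
        have h2 := @Subsingleton.elim _ h1.1 (⟨B, hx⟩ : {B : Lines A // x ∈ (B : Subgroup L)}) ⟨B', hy⟩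
        have h3 : B = B' := congrArg Subtype.val h2
        subst h3
        rfl
      · rintro ⟨⟨x, hx⟩, hx1⟩
        have hx1' : x ≠ 1 := fun e => hx1 (Subtype.ext e)
        have h1 := card_lines_mem hA hx hx1'
        rw [Nat.card_eq_one_iff_unique] at h1
        obtain ⟨-, ⟨⟨B, hB⟩⟩⟩ := h1
        exact ⟨⟨B, ⟨x, hB⟩, fun e => hx1' (congrArg Subtype.val e)⟩, rfl⟩)
  have h1 := Nat.card_congr e
  rw [Nat.card_sigma] at h1
  have h2 : ∀ B : Lines A, Nat.card {x : ↥(B : Subgroup L) // x ≠ 1} = 4 := by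
    intro B
    have : Fintype ↥(B : Subgroup L) := Fintype.ofFinite _
    rw [Nat.card_eq_fintype_card, Fintype.card_subtype_compl, Fintype.card_subtype_eq,
      ← Nat.card_eq_fintype_card, B.2.2]
  simp only [h2, Finset.sum_const, Finset.card_univ, smul_eq_mul] at h1
  rw [Nat.card_eq_fintype_card (α := {x : ↥A // x ≠ 1}), Fintype.card_subtype_compl, Fintype.card_subtype_eq,
    ← Nat.card_eq_fintype_card, ← Nat.card_eq_fintype_card] at h1
  have h3 : 0 < Nat.card ↥A := Nat.card_pos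
  omega

/-- **The formula for the lines**: `∏ |C_V(B)| ^ 5 = |C_V(A)| ^ |A| |V| ^ (n - 1)`, `n` the number of subgroups `B` of
order 5 of `A`. -/
theorem lines_formula {A V : Subgroup L} (hA : IsElementaryAbelian 5 A) {n : ℕ} (hn : Nat.card (Lines A) = n + 1)
    (hAV : A ≤ normalizer (V : Set L)) (hc : (Nat.card ↥A).Coprime (Nat.card ↥V)) (hs : Group.IsSolvable ↥V)
    [Fintype (Lines A)] :
    ∏ B : Lines A, Nat.card ↥(V ⊓ centralizer ((B : Subgroup L) : Set L)) ^ 5 =
      Nat.card ↥(V ⊓ centralizer (A : Set L)) ^ Nat.card ↥A * Nat.card ↥V ^ n := by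
  classical
  have h := OddOrderCharacters.Wielandt.wielandt A V hAV hc hs (I := Lines A) (J := Option (Fin n))
    (fun B => (B : Subgroup L)) (fun j => match j with | none => A | some _ => ⊥) (fun B => B.2.1)
    (fun j => by cases j <;> simp) ?_
  · rw [Fintype.prod_option] at h
    simp only [card_bot, pow_one, coe_bot] at h
    have h1 : V ⊓ centralizer ({1} : Set L) = V := by
      rw [inf_eq_left]
      intro x _
      rw [mem_centralizer_singleton_iff, mul_one, one_mul]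
    rw [h1] at h
    rw [Finset.prod_const, Finset.card_univ, Fintype.card_fin] at h
    rw [← h]
    refine Finset.prod_congr rfl fun B _ => ?_
    rw [B.2.2]
  · intro f
    by_cases hf : f ∈ A
    · by_cases hf1 : f = 1
      · subst hf1
        have e1 : Nat.card {B : Lines A // (1 : L) ∈ (B : Subgroup L)} = n + 1 := by
          rw [← hn]
          exact Nat.card_congr (Equiv.subtypeUnivEquiv fun B => one_mem _)
        rw [e1]
        have e2 : Nat.card {j : Option (Fin n) // (1 : L) ∈ (match j with | none => A | some _ => (⊥ : Subgroup L))} =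
            n + 1 := by
          rw [Nat.card_congr (Equiv.subtypeUnivEquiv fun j => one_mem _)]
          simp
        rw [e2]
      · rw [card_lines_mem hA hf hf1]
        symm
        rw [Nat.card_eq_one_iff_unique]
        refine ⟨⟨?_⟩, ⟨⟨none, hf⟩⟩⟩
        rintro ⟨j, hj⟩ ⟨j', hj'⟩
        cases j with
        | none =>
          cases j' with
          | none => rfl
          | some i' => exact absurd hj' hf1
        | some i => exact absurd hj hf1
    · have e1 : IsEmpty {B : Lines A // f ∈ (B : Subgroup L)} := ⟨fun B => hf (B.1.2.1 B.2)⟩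
      have e2 : IsEmpty {j : Option (Fin n) // f ∈ (match j with | none => A | some _ => (⊥ : Subgroup L))} := by
        refine ⟨fun j => ?_⟩
        obtain ⟨j, hj⟩ := j
        cases j with
        | none => exact hf hj
        | some i =>
          apply hf
          have hj' : f = 1 := hj
          rw [hj']
          exact one_mem A
      rw [Nat.card_of_isEmpty, Nat.card_of_isEmpty]

/-- The data: `V` abelian and normal of order `2 ^ 24`, and `|C_V(x)| ≤ 2 ^ 8` for `x` of order 5. -/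
structure Hyp (V : Subgroup L) : Prop where
  normal : V.Normal
  comm : IsMulCommutative ↥V
  card : Nat.card ↥V = 2 ^ 24
  fix : ∀ x : L, orderOf x = 5 → Nat.card ↥(V ⊓ centralizer ({x} : Set L)) ≤ 2 ^ 8

section

variable {V : Subgroup L}

theorem Hyp.le_norm (h : Hyp V) (A : Subgroup L) : A ≤ normalizer (V : Set L) := by
  have := h.normal
  rw [normalizer_eq_top]
  exact le_top

theorem Hyp.solv (h : Hyp V) : Group.IsSolvable ↥V := by
  have := h.comm
  exact Group.isSolvable_of_comm fun a b => h.comm.is_comm.comm a b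

theorem Hyp.fixLine (h : Hyp V) {A : Subgroup L} (B : Lines A) :
    Nat.card ↥(V ⊓ centralizer ((B : Subgroup L) : Set L)) ≤ 2 ^ 8 := by
  have h5 : Fact (Nat.Prime 5) := ⟨by norm_num⟩
  have : Nontrivial ↥(B : Subgroup L) := by
    rw [← Finite.one_lt_card_iff_nontrivial, B.2.2]; norm_num
  obtain ⟨x, hx⟩ := exists_ne (1 : ↥(B : Subgroup L))
  have hx5 : (x : L) ^ 5 = 1 := by
    have h1 : x ^ Nat.card ↥(B : Subgroup L) = 1 := pow_card_eq_one'
    rw [B.2.2] at h1
    exact congrArg Subtype.val h1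
  have ho : orderOf (x : L) = 5 := orderOf_eq_prime hx5 fun e => hx (Subtype.ext e)
  refine le_trans (Subgroup.card_le_of_le ?_) (h.fix x ho)
  refine inf_le_inf_left _ ?_
  exact centralizer_le (Set.singleton_subset_iff.2 x.2)

theorem Hyp.pow (h : Hyp V) (D : Subgroup L) (hD : D ≤ V) : ∃ k, Nat.card ↥D = 2 ^ k := by
  have h2 : Fact (Nat.Prime 2) := ⟨Nat.prime_two⟩
  have h1 : Nat.card ↥D ∣ 2 ^ 24 := by rw [← h.card]; exact card_dvd_of_le hD
  obtain ⟨k, _, hk⟩ := (Nat.dvd_prime_pow Nat.prime_two).1 h1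
  exact ⟨k, hk⟩

theorem coprime_of {A : Subgroup L} (h : Hyp V) {k : ℕ} (hA : Nat.card ↥A = 5 ^ k) :
    (Nat.card ↥A).Coprime (Nat.card ↥V) := by
  rw [hA, h.card]
  exact Nat.Coprime.pow _ _ (by norm_num)

/-- `|A| = 5 ^ 2` : `|C_V(A)| ≤ 2 ^ 4` -/
theorem Hyp.card_two (h : Hyp V) {A : Subgroup L} (hA : IsElementaryAbelian 5 A) (hc : Nat.card ↥A = 5 ^ 2) :
    Nat.card ↥(V ⊓ centralizer (A : Set L)) ≤ 2 ^ 4 := by
  classical
  have : Fintype (Lines A) := Fintype.ofFinite _
  have h1 := card_lines hA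
  rw [hc] at h1
  have hn : Nat.card (Lines A) = 5 + 1 := by omega
  have h2 := lines_formula hA hn (h.le_norm A) (coprime_of h hc) h.solv
  have h3 : ∏ B : Lines A, Nat.card ↥(V ⊓ centralizer ((B : Subgroup L) : Set L)) ^ 5 ≤ ∏ _B : Lines A, (2 ^ 8) ^ 5 :=
    Finset.prod_le_prod' fun B _ => Nat.pow_le_pow_left (h.fixLine B) 5
  rw [Finset.prod_const, Finset.card_univ, ← Nat.card_eq_fintype_card, hn, h2, h.card, hc] at h3
  obtain ⟨k, hk⟩ := h.pow _ (inf_le_left : V ⊓ centralizer (A : Set L) ≤ V)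
  rw [hk] at h3 ⊢
  rw [← pow_mul, ← pow_mul, ← pow_add, ← pow_mul, ← pow_mul] at h3
  have h4 := (Nat.pow_le_pow_iff_right (by norm_num : 1 < 2)).1 h3
  exact Nat.pow_le_pow_right (by norm_num) (by omega)

theorem exists_hyper_card {A B : Subgroup L} {k : ℕ} (hA : Nat.card ↥A = 5 ^ (k + 1)) (hBA : B ≤ A)
    (hB : B.relIndex A = 5) : Nat.card ↥B = 5 ^ k := by
  have h1 := relIndex_mul_relIndex ⊥ B A bot_le hBA
  rw [relIndex_bot_left, relIndex_bot_left, hB, hA, pow_succ] at h1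
  omega

/-- `|A| = 5 ^ 3` : `C_V(A) = 1` -/
theorem Hyp.card_three (h : Hyp V) {A : Subgroup L} (hA : IsElementaryAbelian 5 A) (hc : Nat.card ↥A = 5 ^ 3) :
    V ⊓ centralizer (A : Set L) = ⊥ := by
  classical
  have h5 : Fact (Nat.Prime 5) := ⟨by norm_num⟩
  have : Fintype (Lines A) := Fintype.ofFinite _
  have hV := h.normal
  have h1 := card_lines hA
  rw [hc] at h1
  have hn : Nat.card (Lines A) = 30 + 1 := by omega
  have h2 := lines_formula hA hn (h.le_norm A) (coprime_of h hc) h.solv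
  have h3 : ∏ B : Lines A, Nat.card ↥(V ⊓ centralizer ((B : Subgroup L) : Set L)) ^ 5 ≤ ∏ _B : Lines A, (2 ^ 8) ^ 5 :=
    Finset.prod_le_prod' fun B _ => Nat.pow_le_pow_left (h.fixLine B) 5
  rw [Finset.prod_const, Finset.card_univ, ← Nat.card_eq_fintype_card, hn, h2, h.card, hc] at h3
  obtain ⟨k, hk⟩ := h.pow _ (inf_le_left : V ⊓ centralizer (A : Set L) ≤ V)
  rw [hk] at h3
  rw [← pow_mul, ← pow_mul, ← pow_add, ← pow_mul, ← pow_mul] at h3
  have h4 := (Nat.pow_le_pow_iff_right (by norm_num : 1 < 2)).1 h3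
  -- `|C_V(A)| ≡ 1`
  have h6 := card_modEq (isPGroup_of_elab hA) (D := V) (fun a _ d hd => hV.conj_mem d hd a)
  rw [hk, h.card] at h6
  have h7 : 2 ^ k ≡ 1 [MOD 5] := by
    refine h6.symm.trans ?_
    decide
  obtain ⟨m, rfl⟩ := two_pow_mod h7
  have h8 : m = 0 ∨ m = 1 := by omega
  rcases h8 with rfl | rfl
  · rw [mul_zero, pow_zero] at hk
    exact Subgroup.card_eq_one.1 hk
  · exfalso
    -- all the hyperplanes have the same fixed points
    have hA1 : A ≠ ⊥ := by
      rintro rfl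
      rw [card_bot] at hc
      norm_num at hc
    have hg := Lib.CoprimeHyperplane.le_iSup_hyperplane A V hA hA1 (by rw [h.card]; exact Nat.Coprime.pow_left _ (by norm_num))
      (h.le_norm A)
    have h9 : V ≤ V ⊓ centralizer (A : Set L) := by
      nth_rw 1 [hg]
      refine iSup_le fun B => ?_
      obtain ⟨B, hBA, hB⟩ := B
      have hBc : Nat.card ↥B = 5 ^ 2 := exists_hyper_card hc hBA hB
      have hBe : IsElementaryAbelian 5 B := elab_le hA hBA
      have h10 := h.card_two hBe hBc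
      have h11 : V ⊓ centralizer (A : Set L) = V ⊓ centralizer (B : Set L) := by
        refine eq_of_le_of_card_ge (inf_le_inf_left _ (centralizer_le hBA)) ?_
        rw [hk]
        exact h10
      rw [h11]
    have h10 := Subgroup.card_le_of_le h9
    rw [hk, h.card] at h10
    norm_num at h10

/-- there is no elementary abelian subgroup of order `5 ^ 4` -/
theorem Hyp.not_four (h : Hyp V) {A : Subgroup L} (hA : IsElementaryAbelian 5 A) (hc : Nat.card ↥A = 5 ^ 4) : False := by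
  have h5 : Fact (Nat.Prime 5) := ⟨by norm_num⟩
  have hA1 : A ≠ ⊥ := by
    rintro rfl
    rw [card_bot] at hc
    norm_num at hc
  have hg := Lib.CoprimeHyperplane.le_iSup_hyperplane A V hA hA1 (by rw [h.card]; exact Nat.Coprime.pow_left _ (by norm_num))
    (h.le_norm A)
  have h9 : V ≤ ⊥ := by
    nth_rw 1 [hg]
    refine iSup_le fun B => ?_
    obtain ⟨B, hBA, hB⟩ := B
    have hBc : Nat.card ↥B = 5 ^ 3 := exists_hyper_card hc hBA hB
    have hBe : IsElementaryAbelian 5 B := elab_le hA hBA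
    exact (h.card_three hBe hBc).le
  have h10 := Subgroup.card_le_of_le h9
  rw [h.card, card_bot] at h10
  norm_num at h10

/-- an involution commuting with an elementary abelian group of order `5 ^ 3` centralises `V` -/
theorem Hyp.invol (h : Hyp V) {A : Subgroup L} (hA : IsElementaryAbelian 5 A) (hc : Nat.card ↥A = 5 ^ 3) {t : L}
    (ht : t * t = 1) (htA : ∀ a ∈ A, t * a = a * t) : V ≤ centralizer ({t} : Set L) := by
  have h5 : Fact (Nat.Prime 5) := ⟨by norm_num⟩
  have h2 : Fact (Nat.Prime 2) := ⟨Nat.prime_two⟩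
  have hV := h.normal
  have hA1 : A ≠ ⊥ := by
    rintro rfl
    rw [card_bot] at hc
    norm_num at hc
  have hg := Lib.CoprimeHyperplane.le_iSup_hyperplane A V hA hA1 (by rw [h.card]; exact Nat.Coprime.pow_left _ (by norm_num))
    (h.le_norm A)
  nth_rw 1 [hg]
  refine iSup_le fun B => ?_
  obtain ⟨B, hBA, hB⟩ := B
  change V ⊓ centralizer (B : Set L) ≤ _
  have hBc : Nat.card ↥B = 5 ^ 2 := exists_hyper_card hc hBA hB
  have hBe : IsElementaryAbelian 5 B := elab_le hA hBA
  have hcomm : ∀ a ∈ A, ∀ b ∈ A, a * b = b * a := fun a ha b hb =>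
    congrArg Subtype.val (hA.1.is_comm.comm ⟨a, ha⟩ ⟨b, hb⟩)
  have h10 := h.card_two hBe hBc
  have h3 := h.card_three hA hc
  -- every `A`-invariant subgroup of `V` has order `≡ 1`
  have key : ∀ D : Subgroup L, D ≤ V → (∀ a ∈ A, ∀ d ∈ D, a * d * a⁻¹ ∈ D) → ∃ m, Nat.card ↥D = 2 ^ (4 * m) := by
    intro D hD hAD
    have h4 := card_modEq (isPGroup_of_elab hA) hAD
    have h6 : D ⊓ centralizer (A : Set L) = ⊥ := by
      rw [eq_bot_iff, ← h3]
      exact inf_le_inf_right _ hD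
    rw [h6, card_bot] at h4
    obtain ⟨k, hk⟩ := h.pow D hD
    rw [hk] at h4
    obtain ⟨m, rfl⟩ := two_pow_mod h4
    exact ⟨m, hk⟩
  set D := V ⊓ centralizer (B : Set L) with hD
  have hDinv : ∀ a ∈ A, ∀ d ∈ D, a * d * a⁻¹ ∈ D := by
    rintro a ha d ⟨hd1, hd2⟩
    refine ⟨hV.conj_mem d hd1 a, ?_⟩
    refine mem_centralizer_iff.2 fun b hb => ?_
    have e1 := mem_centralizer_iff.1 hd2 b hb
    have e2 := hcomm a ha b (hBA hb)
    have e3 : a⁻¹ * b = b * a⁻¹ := by
      rw [inv_mul_eq_iff_eq_mul, ← mul_assoc, e2, mul_inv_cancel_right]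
    calc b * (a * d * a⁻¹) = (b * a) * d * a⁻¹ := by group
      _ = a * (b * d) * a⁻¹ := by rw [← e2]; group
      _ = a * d * (b * a⁻¹) := by rw [e1]; group
      _ = a * d * a⁻¹ * b := by rw [← e3]; group
  have hDt : ∀ d ∈ D, t * d * t⁻¹ ∈ D := by
    rintro d ⟨hd1, hd2⟩
    refine ⟨hV.conj_mem d hd1 t, ?_⟩
    refine mem_centralizer_iff.2 fun b hb => ?_
    have e1 := mem_centralizer_iff.1 hd2 b hb
    have e2 := htA b (hBA hb)
    have e3 : t⁻¹ * b = b * t⁻¹ := by
      rw [inv_mul_eq_iff_eq_mul, ← mul_assoc, e2, mul_inv_cancel_right]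
    calc b * (t * d * t⁻¹) = (b * t) * d * t⁻¹ := by group
      _ = t * (b * d) * t⁻¹ := by rw [← e2]; group
      _ = t * d * (b * t⁻¹) := by rw [e1]; group
      _ = t * d * t⁻¹ * b := by rw [← e3]; group
  obtain ⟨m, hm⟩ := key D inf_le_left hDinv
  have hm1 : m ≤ 1 := by
    rw [hm] at h10
    have := (Nat.pow_le_pow_iff_right (by norm_num : 1 < 2)).1 h10
    omega
  let E := D ⊓ centralizer ({t} : Set L)
  have hEinv : ∀ a ∈ A, ∀ d ∈ E, a * d * a⁻¹ ∈ E := by
    rintro a ha d ⟨hd1, hd2⟩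
    refine ⟨hDinv a ha d hd1, mem_centralizer_singleton_iff.2 ?_⟩
    replace hd2 := mem_centralizer_singleton_iff.1 hd2
    have e2 := htA a ha
    have e3 : a⁻¹ * t = t * a⁻¹ := by
      rw [inv_mul_eq_iff_eq_mul, ← mul_assoc, ← e2, mul_inv_cancel_right]
    calc a * d * a⁻¹ * t = a * d * (a⁻¹ * t) := by group
      _ = a * (d * t) * a⁻¹ := by rw [e3]; group
      _ = (a * t) * d * a⁻¹ := by rw [hd2]; group
      _ = t * (a * d * a⁻¹) := by rw [← e2]; group
  obtain ⟨m', hm'⟩ := key E (inf_le_left.trans inf_le_left) hEinv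
  have hEle : m' ≤ m := by
    have := Subgroup.card_le_of_le (inf_le_left : E ≤ D)
    rw [hm, hm'] at this
    have := (Nat.pow_le_pow_iff_right (by norm_num : 1 < 2)).1 this
    omega
  -- `t` fixes a nontrivial element of `D`
  have hT : IsPGroup 2 ↥(zpowers t) := by
    rintro ⟨x, n, rfl⟩
    refine ⟨1, Subtype.ext ?_⟩
    change (t ^ n) ^ (2 ^ 1) = 1
    rw [pow_one, pow_two, ← (Commute.refl t).mul_zpow, ht, one_zpow]
  have hTD : ∀ a ∈ zpowers t, ∀ d ∈ D, a * d * a⁻¹ ∈ D := by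
    have h7 : zpowers t ≤ normalizer (D : Set L) := by
      rw [zpowers_le, mem_normalizer_iff]
      intro d
      refine ⟨hDt d, fun hd => ?_⟩
      have h8 := hDt _ hd
      have e : t * (t * d * t⁻¹) * t⁻¹ = d := by
        calc t * (t * d * t⁻¹) * t⁻¹ = (t * t) * d * (t * t)⁻¹ := by group
          _ = d := by rw [ht]; group
      rwa [e] at h8
    intro a ha d hd
    exact (mem_normalizer_iff.1 (h7 ha) d).1 hd
  have h8 := card_modEq hT hTD
  have h9 : D ⊓ centralizer ((zpowers t : Subgroup L) : Set L) = E := by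
    ext x
    refine and_congr_right fun _ => ?_
    constructor
    · intro hx
      exact centralizer_le (Set.singleton_subset_iff.2 (mem_zpowers t)) hx
    · intro hx
      have h10 : zpowers t ≤ centralizer ({x} : Set L) := by
        rw [zpowers_le, mem_centralizer_singleton_iff]
        exact (mem_centralizer_singleton_iff.1 hx).symm
      refine mem_centralizer_iff.2 fun y hy => ?_
      exact mem_centralizer_singleton_iff.1 (h10 hy)
  rw [h9, hm, hm'] at h8
  have hmm : m' = m := by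
    rcases Nat.lt_or_ge m' m with h11 | h11
    · exfalso
      have e1 : m' = 0 := by omega
      have e2 : m = 1 := by omega
      rw [e1, e2] at h8
      exact absurd h8 (by decide)
    · omega
  have hED : E = D := eq_of_le_of_card_ge inf_le_left (by rw [hm, hm', hmm])
  rw [← hED]
  exact inf_le_right

/-- **Main**: with `C_L(V) ≤ V`, an involution commutes with no elementary abelian group of order `5 ^ 3`. -/
theorem Hyp.invol_eq (h : Hyp V) (hs : centralizer (V : Set L) ≤ V) {A : Subgroup L} (hA : IsElementaryAbelian 5 A)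
    (hc : Nat.card ↥A = 5 ^ 3) {t : L} (ht : t * t = 1) (htA : ∀ a ∈ A, t * a = a * t) : t = 1 := by
  have h1 := h.invol hA hc ht htA
  have h2 : t ∈ V := hs (mem_centralizer_iff.2 fun v hv => mem_centralizer_singleton_iff.1 (h1 hv))
  have h3 : t ∈ V ⊓ centralizer (A : Set L) := ⟨h2, mem_centralizer_iff.2 fun a ha => (htA a ha).symm⟩
  rw [h.card_three hA hc, mem_bot] at h3
  exact h3

end

end Cfsg.Agent.LThreeM.FiveAbs
end

-- part: LThreeM/SigAbs
section
/-!
# `σ(M) ⊆ {3}` for the Monster, from facts on the centralizers of involutions (helper44)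

`Facts G A B` : the involutions of `G` are of two types `A` and `B`; the orders of `G` and of the involution
centralizers, and the facts on the 5-subgroups of these centralizers used in `sigma_three`.
-/

set_option autoImplicit false
set_option linter.unusedSectionVars false

namespace Cfsg.Agent.LThreeM.SigAbs

open Subgroup Cfsg Cfsg.Agent.LThreeM.FiveAbs

variable {G : Type*} [Group G] [Finite G]

structure Facts (A B : G → Prop) : Prop where
  card : Nat.card G = 808017424794512875886459904961710757005754368000000000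
  cls : ∀ v : G, orderOf v = 2 → A v ∨ B v
  a2 : ∀ v : G, A v → ¬ 2 ^ 45 ∣ Nat.card ↥(centralizer ({v} : Set G))
  a7 : ∀ v : G, A v → ¬ 7 ^ 3 ∣ Nat.card ↥(centralizer ({v} : Set G))
  b7 : ∀ v : G, B v → ¬ 7 ^ 3 ∣ Nat.card ↥(centralizer ({v} : Set G))
  b5 : ∀ v : G, B v → ∀ X : Subgroup G, X ≤ centralizer ({v} : Set G) → IsElementaryAbelian 5 X →
    Nat.card ↥X ≠ 5 ^ 4
  b5' : ∀ v : G, B v → ∀ X : Subgroup G, X ≤ centralizer ({v} : Set G) → IsElementaryAbelian 5 X →
    Nat.card ↥X = 5 ^ 3 → ∀ s : G, s * s = 1 → s * v = v * s → (∀ x ∈ X, s * x = x * s) → s = 1 ∨ s = v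
  aa : ∀ v w : G, A v → A w → v * w = w * v → v ≠ w → A (v * w) →
    ¬ 5 ^ 3 ∣ Nat.card ↥(centralizer ({v} : Set G) ⊓ centralizer ({w} : Set G))

/-- `Ω₁(Z(U))` -/
def omegaZ (U : Subgroup G) : Subgroup G where
  carrier := {x | x ∈ U ∧ x * x = 1 ∧ ∀ u ∈ U, x * u = u * x}
  one_mem' := ⟨one_mem _, by group, fun u _ => by group⟩
  mul_mem' := by
    rintro a b ⟨ha, ha2, hac⟩ ⟨hb, hb2, hbc⟩
    refine ⟨mul_mem ha hb, ?_, fun u hu => ?_⟩
    · calc a * b * (a * b) = a * (b * a) * b := by group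
        _ = a * (a * b) * b := by rw [hbc a ha]
        _ = (a * a) * (b * b) := by group
        _ = 1 := by rw [ha2, hb2, mul_one]
    · rw [mul_assoc, hbc u hu, ← mul_assoc, hac u hu, mul_assoc]
  inv_mem' := by
    rintro a ⟨ha, ha2, hac⟩
    have e : a⁻¹ = a := inv_eq_of_mul_eq_one_left ha2
    rw [e]
    exact ⟨ha, ha2, hac⟩

theorem omegaZ_comm {U : Subgroup G} {x y : G} (hx : x ∈ omegaZ U) (hy : y ∈ omegaZ U) : x * y = y * x :=
  hx.2.2 y hy.1

theorem norm_le (U : Subgroup G) : normalizer (U : Set G) ≤ normalizer ((omegaZ U : Subgroup G) : Set G) := by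
  have key : ∀ n ∈ normalizer (U : Set G), ∀ x ∈ omegaZ U, n * x * n⁻¹ ∈ omegaZ U := by
    rintro n hn x ⟨hx, hx2, hxc⟩
    refine ⟨(mem_normalizer_iff.1 hn x).1 hx, ?_, fun u hu => ?_⟩
    · calc n * x * n⁻¹ * (n * x * n⁻¹) = n * (x * x) * n⁻¹ := by group
        _ = 1 := by rw [hx2]; group
    · have h1 : n⁻¹ * u * n ∈ U := by
        have h2 := (mem_normalizer_iff.1 (inv_mem hn) u).1 hu
        rwa [inv_inv] at h2
      calc n * x * n⁻¹ * u = n * (x * (n⁻¹ * u * n)) * n⁻¹ := by group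
        _ = n * ((n⁻¹ * u * n) * x) * n⁻¹ := by rw [hxc _ h1]
        _ = u * (n * x * n⁻¹) := by group
  intro n hn
  rw [mem_normalizer_iff]
  intro x
  refine ⟨key n hn x, fun hx => ?_⟩
  have h1 := key n⁻¹ (inv_mem hn) _ hx
  have e : n⁻¹ * (n * x * n⁻¹) * n⁻¹⁻¹ = x := by group
  rwa [e] at h1

theorem omegaZ_ne {U : Subgroup G} (hU : IsPGroup 2 ↥U) (hU1 : U ≠ ⊥) : omegaZ U ≠ ⊥ := by
  have : Fact (Nat.Prime 2) := ⟨Nat.prime_two⟩
  have hnt : Nontrivial ↥U := (Subgroup.nontrivial_iff_ne_bot U).2 hU1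
  have hZ := hU.center_nontrivial
  have hZp : IsPGroup 2 ↥(center ↥U) := hU.to_subgroup _
  obtain ⟨z, hz⟩ : ∃ z : ↥(center ↥U), orderOf z = 2 := by
    apply exists_prime_orderOf_dvd_card' 2
    obtain ⟨n, hn⟩ := IsPGroup.iff_card.1 hZp
    have h1 : n ≠ 0 := by
      rintro rfl
      rw [pow_zero] at hn
      exact (Finite.one_lt_card (α := ↥(center ↥U))).ne' hn
    rw [hn]
    exact dvd_pow_self 2 h1
  have ho : orderOf (((z : ↥(center ↥U)) : ↥U) : G) = 2 := by
    rw [Subgroup.orderOf_coe, Subgroup.orderOf_coe, hz]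
  intro h
  have h1 : (((z : ↥(center ↥U)) : ↥U) : G) ∈ omegaZ U := by
    refine ⟨(z : ↥U).2, ?_, fun u hu => ?_⟩
    · rw [← pow_two, ← ho, pow_orderOf_eq_one]
    · exact (congrArg Subtype.val (mem_center_iff.1 z.2 ⟨u, hu⟩)).symm
  rw [h, mem_bot] at h1
  rw [h1, orderOf_one] at ho
  norm_num at ho

theorem exists_elab {p : ℕ} (hp : p.Prime) {M : Subgroup G} (h : PRankAtLeast p 4 ↥M) :
    ∃ X : Subgroup G, X ≤ M ∧ IsElementaryAbelian p X ∧ Nat.card ↥X = p ^ 4 := by
  have : Fact p.Prime := ⟨hp⟩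
  obtain ⟨A, hA, hAp, hc⟩ := h
  let A' := A.map M.subtype
  have hA' : IsElementaryAbelian p A' := by
    refine ⟨⟨⟨?_⟩⟩, ?_⟩
    · rintro ⟨_, a, ha, rfl⟩ ⟨_, b, hb, rfl⟩
      apply Subtype.ext
      have h1 := hA.is_comm.comm ⟨a, ha⟩ ⟨b, hb⟩
      exact congrArg (fun x : ↥A => ((x : ↥M) : G)) h1
    · rintro _ ⟨a, ha, rfl⟩
      exact congrArg (fun x : ↥M => (x : G)) (hAp a ha)
  have hcard : Nat.card ↥A' = Nat.card ↥A := Subgroup.card_map_of_injective M.subtype_injective
  have hP := isPGroup_of_elab hA'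
  obtain ⟨n, hn⟩ := IsPGroup.iff_card.1 hP
  have hn4 : 4 ≤ n := by
    rw [← hcard, hn] at hc
    exact (Nat.pow_le_pow_iff_right hp.one_lt).1 hc
  obtain ⟨X, hX⟩ := Sylow.exists_subgroup_card_pow_prime (G := ↥A') p (n := 4) (by rw [hn]; exact Nat.pow_dvd_pow p hn4)
  refine ⟨X.map A'.subtype, ?_, elab_le hA' (map_subtype_le X), ?_⟩
  · exact (map_subtype_le X).trans (map_subtype_le A)
  · rw [Subgroup.card_map_of_injective A'.subtype_injective, hX]

theorem hyper_card {p : ℕ} (hp : p.Prime) {A B : Subgroup G} {k : ℕ} (hA : Nat.card ↥A = p ^ (k + 1)) (hBA : B ≤ A)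
    (hB : B.relIndex A = p) : Nat.card ↥B = p ^ k := by
  have h1 := relIndex_mul_relIndex ⊥ B A bot_le hBA
  rw [relIndex_bot_left, relIndex_bot_left, hB, hA, pow_succ] at h1
  exact Nat.eq_of_mul_eq_mul_right hp.pos h1

theorem orderOf_two {v : G} (h : v * v = 1) (h1 : v ≠ 1) : orderOf v = 2 := by
  have : Fact (Nat.Prime 2) := ⟨Nat.prime_two⟩
  exact orderOf_eq_prime (by rw [pow_two, h]) h1

section

variable {A B : G → Prop} (F : Facts A B)

include F

theorem not_seven {M : Subgroup G} (hM : IsTwoLocal M) : ¬ PRankAtLeast 7 4 ↥M := by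
  intro h
  have h7 : Fact (Nat.Prime 7) := ⟨by norm_num⟩
  have h2 : Fact (Nat.Prime 2) := ⟨Nat.prime_two⟩
  obtain ⟨X, hXM, hX, hXc⟩ := exists_elab (by norm_num) h
  obtain ⟨U, hU, hU1, rfl⟩ := hM
  set V := omegaZ U with hV
  have hV1 : V ≠ ⊥ := omegaZ_ne hU hU1
  have hVp : IsPGroup 2 ↥V := hU.to_le fun x hx => hx.1
  have hXV : X ≤ normalizer (V : Set G) := hXM.trans (norm_le U)
  have hX1 : X ≠ ⊥ := by
    rintro rfl
    rw [card_bot] at hXc
    norm_num at hXc
  have hcop : (Nat.card ↥V).Coprime 7 := by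
    obtain ⟨n, hn⟩ := IsPGroup.iff_card.1 hVp
    rw [hn]
    exact Nat.Coprime.pow_left _ (by norm_num)
  have hg := Lib.CoprimeHyperplane.le_iSup_hyperplane X V hX hX1 hcop hXV
  obtain ⟨Y, hYX, hY, v, hv, hv1⟩ : ∃ Y : Subgroup G, Y ≤ X ∧ Y.relIndex X = 7 ∧
      ∃ v ∈ V ⊓ centralizer (Y : Set G), v ≠ 1 := by
    by_contra hcon
    push Not at hcon
    apply hV1
    rw [eq_bot_iff]
    nth_rw 1 [hg]
    refine iSup_le ?_
    rintro ⟨Y, hYX, hY⟩ v hv
    exact mem_bot.2 (hcon Y hYX hY v hv)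
  have hYc := hyper_card (by norm_num) hXc hYX hY
  have hYv : Y ≤ centralizer ({v} : Set G) := fun y hy =>
    mem_centralizer_singleton_iff.2 (mem_centralizer_iff.1 hv.2 y hy)
  have hd : 7 ^ 3 ∣ Nat.card ↥(centralizer ({v} : Set G)) := by
    rw [← hYc]
    exact card_dvd_of_le hYv
  rcases F.cls v (orderOf_two hv.1.2.1 hv1) with h1 | h1
  · exact F.a7 v h1 hd
  · exact F.b7 v h1 hd

theorem not_five {S : Sylow 2 G} {M : Subgroup G} (hM : IsTwoLocal M) (hSM : M.relIndex (S : Subgroup G) ≤ 2) :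
    ¬ PRankAtLeast 5 4 ↥M := by
  intro h
  have h5 : Fact (Nat.Prime 5) := ⟨by norm_num⟩
  have h2 : Fact (Nat.Prime 2) := ⟨Nat.prime_two⟩
  obtain ⟨X, hXM, hX, hXc⟩ := exists_elab (by norm_num) h
  obtain ⟨U, hU, hU1, rfl⟩ := hM
  set V := omegaZ U with hV
  have hV1 : V ≠ ⊥ := omegaZ_ne hU hU1
  have hVp : IsPGroup 2 ↥V := hU.to_le fun x hx => hx.1
  have hXV : X ≤ normalizer (V : Set G) := hXM.trans (norm_le U)
  have hX1 : X ≠ ⊥ := by
    rintro rfl
    rw [card_bot] at hXc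
    norm_num at hXc
  have hcop : (Nat.card ↥V).Coprime 5 := by
    obtain ⟨n, hn⟩ := IsPGroup.iff_card.1 hVp
    rw [hn]
    exact Nat.Coprime.pow_left _ (by norm_num)
  have hg := Lib.CoprimeHyperplane.le_iSup_hyperplane X V hX hX1 hcop hXV
  -- an involution of type `B` in `V`
  set T : Subgroup G := (S : Subgroup G) ⊓ normalizer (U : Set G) with hT
  have hTp : IsPGroup 2 ↥T := S.isPGroup'.to_le inf_le_left
  have hTV : T ≤ normalizer (V : Set G) := inf_le_right.trans (norm_le U)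
  have hS : 2 ^ 46 ∣ Nat.card ↥(S : Subgroup G) := by
    apply S.pow_dvd_card_of_pow_dvd_card
    rw [F.card]
    norm_num
  have hTc : 2 ^ 45 ∣ Nat.card ↥T := by
    have h1 := relIndex_mul_relIndex ⊥ T (S : Subgroup G) bot_le inf_le_left
    rw [relIndex_bot_left, relIndex_bot_left] at h1
    have h3 : T.relIndex (S : Subgroup G) ≤ 2 := by
      rw [hT, inf_comm, inf_relIndex_right]
      exact hSM
    obtain ⟨c, hc⟩ := hS
    rw [hc] at h1
    have h4 : T.relIndex (S : Subgroup G) ≠ 0 := by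
      intro h5
      rw [h5, mul_zero] at h1
      have h6 : 0 < Nat.card ↥(S : Subgroup G) := Nat.card_pos
      rw [hc, ← h1] at h6
      exact lt_irrefl _ h6
    have h5 : T.relIndex (S : Subgroup G) = 1 ∨ T.relIndex (S : Subgroup G) = 2 := by omega
    rcases h5 with h5 | h5
    · rw [h5] at h1
      exact ⟨2 * c, by omega⟩
    · rw [h5] at h1
      exact ⟨c, by omega⟩
  obtain ⟨v₀, hv₀, hv₀1, hv₀T⟩ : ∃ v₀ ∈ V, v₀ ≠ 1 ∧ T ≤ centralizer ({v₀} : Set G) := by
    have h1 := card_modEq hTp (D := V) (fun a ha d hd => (mem_normalizer_iff.1 (hTV ha) d).1 hd)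
    have h3 : 2 ∣ Nat.card ↥V := by
      obtain ⟨n, hn⟩ := IsPGroup.iff_card.1 hVp
      rw [hn]
      refine dvd_pow_self 2 ?_
      rintro rfl
      rw [pow_zero] at hn
      exact hV1 (Subgroup.card_eq_one.1 hn)
    have h4 : V ⊓ centralizer (T : Set G) ≠ ⊥ := by
      intro h5
      rw [h5, card_bot] at h1
      have h6 : Nat.card ↥V % 2 = 1 % 2 := h1
      omega
    obtain ⟨⟨v, hv⟩, hv1⟩ := Subgroup.ne_bot_iff_exists_ne_one.1 h4
    exact ⟨v, hv.1, fun e => hv1 (Subtype.ext e), fun t ht =>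
      mem_centralizer_singleton_iff.2 (mem_centralizer_iff.1 hv.2 t ht)⟩
  have hB₀ : B v₀ := by
    rcases F.cls v₀ (orderOf_two hv₀.2.1 hv₀1) with h1 | h1
    · exact absurd (hTc.trans (card_dvd_of_le hv₀T)) (F.a2 v₀ h1)
    · exact h1
  have hXv₀ : ¬ X ≤ centralizer ({v₀} : Set G) := fun h1 => F.b5 v₀ hB₀ X h1 hX hXc
  -- a hyperplane
  obtain ⟨Y, hYX, hY, w, hw, hwX⟩ : ∃ Y : Subgroup G, Y ≤ X ∧ Y.relIndex X = 5 ∧
      ∃ w ∈ V ⊓ centralizer (Y : Set G), w ∉ centralizer (X : Set G) := by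
    by_contra hcon
    push Not at hcon
    apply hXv₀
    have h1 : V ≤ centralizer (X : Set G) := by
      rw [hg]
      refine iSup_le ?_
      rintro ⟨Y, hYX, hY⟩ v hv
      exact hcon Y hYX hY v hv
    intro x hx
    exact mem_centralizer_singleton_iff.2 (mem_centralizer_iff.1 (h1 hv₀) x hx)
  have hYc := hyper_card (by norm_num) hXc hYX hY
  set W := V ⊓ centralizer (Y : Set G) with hW
  have hXcomm : ∀ a ∈ X, ∀ b ∈ X, a * b = b * a := fun a ha b hb =>
    congrArg (fun x : ↥X => (x : G)) (hX.1.is_comm.comm ⟨a, ha⟩ ⟨b, hb⟩)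
  obtain ⟨x, hx, hxw⟩ : ∃ x ∈ X, x * w ≠ w * x := by
    by_contra hcon
    push Not at hcon
    exact hwX (mem_centralizer_iff.2 hcon)
  set w' := x * w * x⁻¹ with hw'
  have hww' : w ≠ w' := by
    intro e
    apply hxw
    rw [hw'] at e
    exact (mul_inv_eq_iff_eq_mul.1 e.symm)
  have hw'W : w' ∈ W := by
    refine ⟨(mem_normalizer_iff.1 (hXV hx) w).1 hw.1, mem_centralizer_iff.2 fun y hy => ?_⟩
    have e1 := mem_centralizer_iff.1 hw.2 y hy
    have e2 := hXcomm x hx y (hYX hy)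
    have e3 : x⁻¹ * y = y * x⁻¹ := by
      rw [inv_mul_eq_iff_eq_mul, ← mul_assoc, e2, mul_inv_cancel_right]
    calc y * (x * w * x⁻¹) = (y * x) * w * x⁻¹ := by group
      _ = x * (y * w) * x⁻¹ := by rw [← e2]; group
      _ = x * w * (y * x⁻¹) := by rw [e1]; group
      _ = x * w * x⁻¹ * y := by rw [← e3]; group
  have hw1 : w ≠ 1 := by
    rintro rfl
    apply hxw
    group
  have hw'1 : w' ≠ 1 := by
    intro e
    apply hw1
    have : w = x⁻¹ * w' * x := by rw [hw']; group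
    rw [this, e]; group
  have hYe := elab_le hX hYX
  have hYle : ∀ y ∈ W, Y ≤ centralizer ({y} : Set G) := fun y hy a ha =>
    mem_centralizer_singleton_iff.2 (mem_centralizer_iff.1 hy.2 a ha)
  -- `W` is pure of type `A`
  have hpure : ∀ y ∈ W, y ≠ 1 → A y := by
    intro y hy hy1
    rcases F.cls y (orderOf_two hy.1.2.1 hy1) with h1 | h1
    · exact h1
    · exfalso
      have key : ∀ s ∈ W, s = 1 ∨ s = y := fun s hs =>
        F.b5' y h1 Y (hYle y hy) hYe hYc s hs.1.2.1 (omegaZ_comm hs.1 hy.1)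
          fun a ha => (mem_centralizer_iff.1 hs.2 a ha).symm
      have e1 := (key w hw).resolve_left hw1
      have e2 := (key w' hw'W).resolve_left hw'1
      exact hww' (e1.trans e2.symm)
  refine F.aa w w' (hpure w hw hw1) (hpure w' hw'W hw'1) (omegaZ_comm hw.1 hw'W.1) hww'
    (hpure _ (mul_mem hw hw'W) ?_) ?_
  · intro e
    apply hww'
    have e1 : w⁻¹ = w' := inv_eq_of_mul_eq_one_right e
    have e2 : w⁻¹ = w := inv_eq_of_mul_eq_one_left hw.1.2.1
    rw [← e2]
    exact e1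
  · rw [← hYc]
    exact card_dvd_of_le (le_inf (hYle w hw) (hYle w' hw'W))

omit F in
theorem dvd_prime_list {p : ℕ} (hp : p.Prime) (h : p ∣ 808017424794512875886459904961710757005754368000000000) :
    p ∈ [2, 3, 5, 7, 11, 13, 17, 19, 23, 29, 31, 41, 47, 59, 71] := by
  have e : (808017424794512875886459904961710757005754368000000000 : ℕ) =
      2 ^ 46 * (3 ^ 20 * (5 ^ 9 * (7 ^ 6 * (11 ^ 2 * (13 ^ 3 * (17 * (19 * (23 * (29 * (31 * (41 * (47 * (59 * 71))))))))))))) := by
    norm_num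
  rw [e] at h
  have hs : ∀ q m : ℕ, q.Prime → p ∣ q * m → p = q ∨ p ∣ m := fun q m hq h1 =>
    ((hp.dvd_mul).1 h1).imp_left fun h2 => (Nat.prime_dvd_prime_iff_eq hp hq).1 h2
  have hsp : ∀ q k m : ℕ, q.Prime → p ∣ q ^ k * m → p = q ∨ p ∣ m := fun q k m hq h1 =>
    ((hp.dvd_mul).1 h1).imp_left fun h2 => (Nat.prime_dvd_prime_iff_eq hp hq).1 (hp.dvd_of_dvd_pow h2)
  simp only [List.mem_cons, List.not_mem_nil, or_false]
  rcases hsp 2 46 _ (by norm_num) h with h | h
  · omega
  rcases hsp 3 20 _ (by norm_num) h with h | h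
  · omega
  rcases hsp 5 9 _ (by norm_num) h with h | h
  · omega
  rcases hsp 7 6 _ (by norm_num) h with h | h
  · omega
  rcases hsp 11 2 _ (by norm_num) h with h | h
  · omega
  rcases hsp 13 3 _ (by norm_num) h with h | h
  · omega
  rcases hs 17 _ (by norm_num) h with h | h
  · omega
  rcases hs 19 _ (by norm_num) h with h | h
  · omega
  rcases hs 23 _ (by norm_num) h with h | h
  · omega
  rcases hs 29 _ (by norm_num) h with h | h
  · omega
  rcases hs 31 _ (by norm_num) h with h | h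
  · omega
  rcases hs 41 _ (by norm_num) h with h | h
  · omega
  rcases hs 47 _ (by norm_num) h with h | h
  · omega
  rcases hs 59 _ (by norm_num) h with h | h
  · omega
  have h1 := (Nat.prime_dvd_prime_iff_eq hp (by norm_num : Nat.Prime 71)).1 h
  omega

/-- **`σ(G) ⊆ {3}`** -/
theorem sigma_three : ∀ p ∈ sigmaSet G, p = 3 := by
  rintro p ⟨hp, hp2, S, M, hM, hr⟩
  by_contra hp3
  have h4 : p ^ 4 ∣ Nat.card G := by
    obtain ⟨X, -, -, hX⟩ := exists_elab hp hr
    rw [← hX]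
    exact card_subgroup_dvd_card X
  rw [F.card] at h4
  have h1 := dvd_prime_list hp ((dvd_pow_self p (by norm_num)).trans h4)
  simp only [List.mem_cons, List.not_mem_nil, or_false] at h1
  rcases h1 with rfl | rfl | rfl | rfl | rfl | rfl | rfl | rfl | rfl | rfl | rfl | rfl | rfl | rfl | rfl
  · exact hp2 rfl
  · exact hp3 rfl
  · exact not_five F hM.1.1 hM.2 hr
  · exact not_seven F hM.1.1 hr
  all_goals exact absurd h4 (by norm_num)

end

end Cfsg.Agent.LThreeM.SigAbs
end

-- part: LThreeM/FiveK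
section
/-!
# The 5-subgroups of `K = C(z)` (helper44)

For a `K`-side `M : KS G V P W` with a lift `L : Lift M θ` the subgroup `VK = ι P / ⟨z⟩` of `K / ⟨z⟩` satisfies
`FiveAbs.Hyp` and is self-centralizing. Consequences for the elementary abelian 5-subgroups of `K`:
`not_four`, `three`.
-/

set_option autoImplicit false
set_option linter.unusedSectionVars false

namespace Cfsg.Agent.LThreeM.FiveK

open Cfsg Cfsg.Spor Cfsg.Agent.LeechMat.Core Cfsg.Agent.MonsterX.KSide Cfsg.Agent.MonsterX.KLift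
open Cfsg.Agent.MonsterX.FrameKS Cfsg.Agent.MonsterX.KModel
open Cfsg.Agent.MonsterU.Lam2 Cfsg.Agent.MonsterU.TwoCls Cfsg.Agent.MonsterU.TwoQ
open Cfsg.Agent.CoOneType.ClosingFacts
open Cfsg.Agent.MonsterU.InvTwo (ι_inj)
open Subgroup hiding mk

variable {G V P W : Type*} [Group G] [AddCommGroup V] [Module ℚ V]
  [DistribMulAction G V] [SMulCommClass G ℚ V] [Group P] [AddCommGroup W] [Module ℚ W]
  (M : KS G V P W) {θ : leechLattice → P}

/-- `z` as an element of `K` -/
def zK : ↥M.K := ⟨M.z, M.ι_mem M.zc⟩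

theorem z_sq : M.z * M.z = 1 := by
  change M.ι M.zc * M.ι M.zc = 1
  rw [← map_mul, M.zc_mul, map_one]

theorem zK_sq : zK M * zK M = 1 := Subtype.ext (z_sq M)

theorem mem_z {x : ↥M.K} : x ∈ zpowers (zK M) ↔ x = 1 ∨ x = zK M := by
  constructor
  · intro h
    obtain ⟨i, rfl⟩ := mem_zpowers_iff.1 h
    have h2 : zK M ^ (2 : ℤ) = 1 := by
      rw [zpow_two, zK_sq]
    rcases Int.even_or_odd' i with ⟨k, rfl | rfl⟩
    · left; rw [zpow_mul, h2, one_zpow]
    · right; rw [zpow_add, zpow_mul, h2, one_zpow, one_mul, zpow_one]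
  · rintro (rfl | rfl)
    · exact one_mem _
    · exact mem_zpowers _

instance norm_z : (zpowers (zK M)).Normal := by
  refine ⟨fun n hn g => ?_⟩
  obtain ⟨i, rfl⟩ := mem_zpowers_iff.1 hn
  have h1 : Commute g (zK M) := Subtype.ext (M.z_comm_K g g.2)
  rw [(h1.zpow_right i).eq, mul_inv_cancel_right]
  exact zpow_mem (mem_zpowers _) i

/-- `K / ⟨z⟩` -/
abbrev Q : Type _ := ↥M.K ⧸ zpowers (zK M)

/-- the quotient map -/
abbrev mkQ : ↥M.K →* Q M := QuotientGroup.mk' (zpowers (zK M))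

theorem mkQ_eq_one {x : ↥M.K} : mkQ M x = 1 ↔ x = 1 ∨ x = zK M := by
  rw [← mem_z]
  exact QuotientGroup.eq_one_iff x

/-- `ι` as a map to `K` -/
def ιK : P →* ↥M.K := M.ι.codRestrict M.K M.ι_mem

/-- the map `P → K / ⟨z⟩` -/
def ρ : P →* Q M := (mkQ M).comp (ιK M)

/-- `ι P / ⟨z⟩` -/
def VK : Subgroup (Q M) := (ρ M).range

variable {M}

theorem ρ_eq (L : Lift M θ) {p q : P} : ρ M p = ρ M q ↔ clP L p = clP L q := by
  have h : ρ M p = ρ M q ↔ (ιK M p)⁻¹ * ιK M q ∈ zpowers (zK M) := QuotientGroup.eq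
  rw [h, mem_z, clP_eq' L]
  constructor
  · rintro (e | e)
    · left
      exact ι_inj L (congrArg Subtype.val (inv_mul_eq_one.1 e))
    · right
      have h1 : M.ι q = M.ι p * M.z := inv_mul_eq_iff_eq_mul.1 (congrArg Subtype.val e)
      apply ι_inj L
      rw [map_mul, h1]
      change M.ι p = M.z * (M.ι p * M.z)
      rw [z_comm_ι, ← mul_assoc, z_sq, one_mul]
  · rintro (rfl | rfl)
    · left
      rw [inv_mul_cancel]
    · right
      apply Subtype.ext
      change (M.ι (M.zc * q))⁻¹ * M.ι q = M.z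
      rw [map_mul]
      change (M.z * M.ι q)⁻¹ * M.ι q = M.z
      rw [← z_comm_ι, mul_inv_rev, inv_mul_cancel_right]
      exact inv_eq_of_mul_eq_one_left (z_sq M)

/-- the element of `K / ⟨z⟩` attached to a class of `Λ / 2Λ` -/
noncomputable def vec (L : Lift M θ) (c : L2) : Q M := ρ M (Classical.choose (clP_surjective L c))

theorem vec_clP (L : Lift M θ) (p : P) : vec L (clP L p) = ρ M p :=
  (ρ_eq L).2 (Classical.choose_spec (clP_surjective L (clP L p)))

theorem vec_inj (L : Lift M θ) {c d : L2} (h : vec L c = vec L d) : c = d := by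
  obtain ⟨p, rfl⟩ := clP_surjective L c
  obtain ⟨q, rfl⟩ := clP_surjective L d
  rw [vec_clP, vec_clP] at h
  exact (ρ_eq L).1 h

theorem mem_VK (L : Lift M θ) {x : Q M} : x ∈ VK M ↔ ∃ c, vec L c = x := by
  constructor
  · rintro ⟨p, rfl⟩
    exact ⟨clP L p, vec_clP L p⟩
  · rintro ⟨c, rfl⟩
    exact ⟨_, rfl⟩

theorem vec_mul (L : Lift M θ) (c d : L2) : vec L c * vec L d = vec L (c + d) := by
  obtain ⟨p, rfl⟩ := clP_surjective L c
  obtain ⟨q, rfl⟩ := clP_surjective L d
  rw [← clP_mul, vec_clP, vec_clP, vec_clP, map_mul]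

theorem vec_zero (L : Lift M θ) : vec L 0 = 1 := by
  rw [← clP_one L, vec_clP, map_one]

theorem conj_vec (L : Lift M θ) {k : ↥M.K} {A : Co0} (h : Ind M (k : G) A) (c : L2) :
    mkQ M k * vec L c = vec L (A • c) * mkQ M k := by
  obtain ⟨p, rfl⟩ := clP_surjective L c
  obtain ⟨α, h1, h2⟩ := aut L k.2 h
  rw [← h2, vec_clP, vec_clP]
  have h3 : k * ιK M p = ιK M (α p) * k := Subtype.ext (h1 p)
  have h4 := congrArg (mkQ M) h3
  rw [map_mul, map_mul] at h4
  exact h4

theorem comm_iff (L : Lift M θ) {k : ↥M.K} {A : Co0} (h : Ind M (k : G) A) (c : L2) :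
    mkQ M k * vec L c = vec L c * mkQ M k ↔ A • c = c := by
  rw [conj_vec L h c]
  constructor
  · intro e
    exact vec_inj L (mul_right_cancel e)
  · intro e
    rw [e]

theorem Ind_pow {g : G} {A : Co0} (h : Ind M g A) (n : ℕ) : Ind M (g ^ n) (A ^ n) := by
  induction n with
  | zero => rw [pow_zero, pow_zero]; exact Ind.one M
  | succ n ih => rw [pow_succ, pow_succ]; exact ih.mul h

theorem mk_eq_one_iff {k : ↥M.K} {A : Co0} (h : Ind M (k : G) A) : mk A = 1 ↔ mkQ M k ∈ VK M := by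
  rw [← Ind_mem_iff k.2 h]
  constructor
  · rintro ⟨p, hp⟩
    exact ⟨p, congrArg (mkQ M) (Subtype.ext hp.symm)⟩
  · rintro ⟨p, hp⟩
    have h1 : (ιK M p)⁻¹ * k ∈ zpowers (zK M) := QuotientGroup.eq.1 hp
    rcases (mem_z M).1 h1 with e | e
    · exact ⟨p, (congrArg Subtype.val (inv_mul_eq_one.1 e)).symm⟩
    · refine ⟨p * M.zc, ?_⟩
      have h2 : (k : G) = M.ι p * M.z := inv_mul_eq_iff_eq_mul.1 (congrArg Subtype.val e)
      rw [h2, map_mul]
      rfl

theorem card_VK (L : Lift M θ) : Nat.card ↥(VK M) = 2 ^ 24 := by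
  rw [← card_L2]
  refine (Nat.card_congr (Equiv.ofBijective (fun c : L2 => (⟨vec L c, (mem_VK L).2 ⟨c, rfl⟩⟩ : ↥(VK M))) ⟨?_, ?_⟩)).symm
  · intro c d h
    exact vec_inj L (congrArg Subtype.val h)
  · rintro ⟨x, hx⟩
    obtain ⟨c, rfl⟩ := (mem_VK L).1 hx
    exact ⟨c, rfl⟩

theorem card_fix (L : Lift M θ) {k : ↥M.K} {A : Co0} (h : Ind M (k : G) A) :
    Nat.card ↥(VK M ⊓ centralizer ({mkQ M k} : Set (Q M))) = Nat.card {c : L2 // mk A • c = c} := by
  refine (Nat.card_congr (Equiv.ofBijective (fun c : {c : L2 // mk A • c = c} =>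
    (⟨vec L c, (mem_VK L).2 ⟨c, rfl⟩, ?_⟩ : ↥(VK M ⊓ centralizer ({mkQ M k} : Set (Q M))))) ⟨?_, ?_⟩)).symm
  · refine mem_centralizer_singleton_iff.2 ?_
    exact (((comm_iff L h c).2 c.2)).symm
  · intro c d h
    exact Subtype.ext (vec_inj L (congrArg Subtype.val h))
  · rintro ⟨x, hx, hx'⟩
    obtain ⟨c, rfl⟩ := (mem_VK L).1 hx
    have h1 := mem_centralizer_singleton_iff.1 hx'
    exact ⟨⟨c, (comm_iff L h c).1 h1.symm⟩, rfl⟩

theorem hyp [Finite G] (L : Lift M θ) : FiveAbs.Hyp (VK M) where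
  normal := by
    refine ⟨fun x hx g => ?_⟩
    obtain ⟨c, rfl⟩ := (mem_VK L).1 hx
    obtain ⟨k, rfl⟩ := QuotientGroup.mk_surjective g
    obtain ⟨A, hA⟩ := ind_exists k.2
    have h1 : mkQ M k * vec L c = vec L (A • c) * mkQ M k := conj_vec L hA c
    change mkQ M k * vec L c * (mkQ M k)⁻¹ ∈ VK M
    rw [h1, mul_inv_cancel_right]
    exact (mem_VK L).2 ⟨_, rfl⟩
  comm := by
    refine ⟨⟨?_⟩⟩
    rintro ⟨x, hx⟩ ⟨y, hy⟩
    obtain ⟨c, rfl⟩ := (mem_VK L).1 hx
    obtain ⟨d, rfl⟩ := (mem_VK L).1 hy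
    apply Subtype.ext
    change vec L c * vec L d = vec L d * vec L c
    rw [vec_mul, vec_mul, add_comm]
  card := card_VK L
  fix := by
    intro x hx
    obtain ⟨k, rfl⟩ := QuotientGroup.mk_surjective x
    obtain ⟨A, hA⟩ := ind_exists k.2
    have h5 : Fact (Nat.Prime 5) := ⟨by norm_num⟩
    have hx' : orderOf (mkQ M k) = 5 := hx
    have h1 : orderOf (mk A) = 5 := by
      apply orderOf_eq_prime
      · have h2 : Ind M ((k ^ 5 : ↥M.K) : G) (A ^ 5) := Ind_pow hA 5
        have h3 : mk (A ^ 5) = 1 := by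
          rw [mk_eq_one_iff h2, map_pow, ← hx', pow_orderOf_eq_one]
          exact one_mem _
        exact h3
      · intro h2
        rw [mk_eq_one_iff hA, mem_VK L] at h2
        obtain ⟨c, hc⟩ := h2
        have h3 : mkQ M k ^ 2 = 1 := by
          rw [← hc, pow_two, vec_mul, add_self, vec_zero]
        have h4 := orderOf_dvd_of_pow_eq_one h3
        rw [hx'] at h4
        norm_num at h4
    change Nat.card ↥(VK M ⊓ centralizer ({mkQ M k} : Set (Q M))) ≤ 2 ^ 8
    rw [card_fix L hA]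
    exact FiveFix.fix_le h1

theorem self_cent (L : Lift M θ) : centralizer (VK M : Set (Q M)) ≤ VK M := by
  intro x hx
  obtain ⟨k, rfl⟩ := QuotientGroup.mk_surjective x
  obtain ⟨A, hA⟩ := ind_exists k.2
  change mkQ M k ∈ VK M
  rw [← mk_eq_one_iff hA]
  have h1 : A ∈ center Co0 := mem_center_of_trivial fun c => by
    rw [← comm_iff L hA]
    exact (mem_centralizer_iff.1 hx (vec L c) ((mem_VK L).2 ⟨c, rfl⟩)).symm
  exact (QuotientGroup.eq_one_iff A).2 h1

/-! ### Consequences for subgroups of `G` -/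

section

variable {X : Subgroup G} (hXK : X ≤ M.K) (hX : IsElementaryAbelian 5 X)

/-- the map `X → K / ⟨z⟩` -/
def toQ (hXK : X ≤ M.K) : ↥X →* Q M := (mkQ M).comp (inclusion hXK)

include hX in
theorem toQ_inj (L : Lift M θ) : Function.Injective (toQ hXK) := by
  rw [injective_iff_map_eq_one]
  intro x hx
  have h1 := (mkQ_eq_one M).1 hx
  rcases h1 with e | e
  · exact Subtype.ext (congrArg (fun y : ↥M.K => (y : G)) e)
  · exfalso
    have h2 : (x : G) = M.z := congrArg (fun y : ↥M.K => (y : G)) e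
    have h3 : (x : G) ^ 5 = 1 := hX.2 x x.2
    have h4 : (x : G) ^ 2 = 1 := by rw [h2, pow_two, z_sq]
    have h5 : (x : G) = 1 := by
      calc (x : G) = (x : G) ^ 5 * ((x : G) ^ 2)⁻¹ * ((x : G) ^ 2)⁻¹ := by group
        _ = 1 := by rw [h3, h4]; group
    exact z_ne_one L (h2.symm.trans h5)

include hX in
theorem toQ_elab : IsElementaryAbelian 5 (toQ hXK).range := by
  refine ⟨⟨⟨?_⟩⟩, ?_⟩
  · rintro ⟨_, a, rfl⟩ ⟨_, b, rfl⟩
    apply Subtype.ext
    change toQ hXK a * toQ hXK b = toQ hXK b * toQ hXK a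
    rw [← map_mul, ← map_mul, hX.1.is_comm.comm a b]
  · rintro _ ⟨a, rfl⟩
    have h1 : a ^ 5 = 1 := Subtype.ext (hX.2 a a.2)
    rw [← map_pow, h1, map_one]

include hX in
theorem toQ_card (L : Lift M θ) : Nat.card ↥(toQ hXK).range = Nat.card ↥X :=
  (Nat.card_congr (MonoidHom.ofInjective (toQ_inj hXK hX L)).toEquiv).symm

include hXK hX in
/-- no elementary abelian subgroup of order `5 ^ 4` in `K` -/
theorem not_four [Finite G] (L : Lift M θ) : Nat.card ↥X ≠ 5 ^ 4 := fun h =>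
  (hyp L).not_four (toQ_elab hXK hX) (by rw [toQ_card hXK hX L, h])

include hXK hX in
/-- an involution of `K` commuting with an elementary abelian subgroup of order `5 ^ 3` of `K` is `z` -/
theorem three [Finite G] (L : Lift M θ) (hc : Nat.card ↥X = 5 ^ 3) {s : G} (hs : s * s = 1) (hsK : s ∈ M.K)
    (hsX : ∀ x ∈ X, s * x = x * s) : s = 1 ∨ s = M.z := by
  have h1 : mkQ M ⟨s, hsK⟩ = 1 := by
    refine (hyp L).invol_eq (self_cent L) (toQ_elab hXK hX) (by rw [toQ_card hXK hX L, hc]) ?_ ?_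
    · rw [← map_mul]
      have h2 : (⟨s, hsK⟩ : ↥M.K) * ⟨s, hsK⟩ = 1 := Subtype.ext hs
      rw [h2, map_one]
    · rintro _ ⟨a, rfl⟩
      change mkQ M ⟨s, hsK⟩ * mkQ M (inclusion hXK a) = mkQ M (inclusion hXK a) * mkQ M ⟨s, hsK⟩
      rw [← map_mul, ← map_mul]
      congr 1
      exact Subtype.ext (hsX a a.2)
  rcases (mkQ_eq_one M).1 h1 with e | e
  · left; exact congrArg Subtype.val e
  · right; exact congrArg Subtype.val e

end

end Cfsg.Agent.LThreeM.FiveK
end
end

-- part: LThreeM/SigRow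
section
prune_inst 0x20104000002200000018000020000060100000020040000100000000080080412004000030700010010008e0600a800001440009020800000a008a00000400000403004000340c00100000004800000000000000000000000000000000000000000000000
set_option linter.all false
open scoped Cfsg.Agent.FastGrp

-- merged: Cfsg.Agent.LThreeM.SigPar
section

/-!
# The facts `SigAbs.Facts` for a model of the Monster (helper44)

`facts` : type `A` the conjugates of the involution of an axis (class `2A`), type `B` the conjugates of `z`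
(class `2B`).
-/

set_option autoImplicit false
set_option linter.unusedSectionVars false

open Subgroup

namespace Cfsg.Agent.LThreeM.SigPar

open Cfsg Cfsg.Lie Cfsg.Agent.Bimonster Cfsg.Agent.BabyU Cfsg.Agent.TwoESix.Cover
open Cfsg.Agent.MonsterX.KSide Cfsg.Agent.MonsterX.KLift Cfsg.Agent.MonsterX.KModel
open Cfsg.Agent.MonsterX.Model Cfsg.Agent.MonsterX.MainPack Cfsg.Agent.MonsterX.MainSimple
open Cfsg.Agent.MonsterX.MainBasic Cfsg.Agent.MonsterU.Assembly Cfsg.Agent.MonsterN.Lit Cfsg.Agent.MonsterN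
open Cfsg.Agent.MonsterN.LitInst Cfsg.Agent.MonsterU.Lam2 Cfsg.Agent.MonsterU.TwoCls

/-! ### Conjugation -/

section

variable {G : Type*} [Group G]

theorem isConj_conj (c : G) {v w : G} (h : IsConj v w) : IsConj v (c * w * c⁻¹) :=
  h.trans (isConj_iff.2 ⟨c, rfl⟩)

/-- the order of the centralizer of two elements -/
theorem card_two_conj (c v w : G) :
    Nat.card ↥(centralizer ({v} : Set G) ⊓ centralizer ({w} : Set G)) =
      Nat.card ↥(centralizer ({c * v * c⁻¹} : Set G) ⊓ centralizer ({c * w * c⁻¹} : Set G)) := by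
  refine Nat.card_congr ((MulAut.conj c).toEquiv.subtypeEquiv fun g => ?_)
  have key : ∀ x : G, g * x = x * g ↔ c * g * c⁻¹ * (c * x * c⁻¹) = c * x * c⁻¹ * (c * g * c⁻¹) := by
    intro x
    have e1 : c * g * c⁻¹ * (c * x * c⁻¹) = c * (g * x) * c⁻¹ := by group
    have e2 : c * x * c⁻¹ * (c * g * c⁻¹) = c * (x * g) * c⁻¹ := by group
    rw [e1, e2]
    exact ⟨fun h => by rw [h], fun h => mul_left_cancel (mul_right_cancel h)⟩
  rw [mem_inf, mem_inf, mem_centralizer_singleton_iff, mem_centralizer_singleton_iff, mem_centralizer_singleton_iff,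
    mem_centralizer_singleton_iff]
  exact and_congr (key v) (key w)

/-- the conjugate of an elementary abelian subgroup -/
theorem elab_conj {p : ℕ} (c : G) {X : Subgroup G} (hX : IsElementaryAbelian p X) :
    IsElementaryAbelian p (X.map (MulAut.conj c).toMonoidHom) := by
  refine ⟨⟨⟨?_⟩⟩, ?_⟩
  · rintro ⟨_, a, ha, rfl⟩ ⟨_, b, hb, rfl⟩
    apply Subtype.ext
    have h1 : a * b = b * a := congrArg (fun x : ↥X => (x : G)) (hX.1.is_comm.comm ⟨a, ha⟩ ⟨b, hb⟩)
    change (MulAut.conj c).toMonoidHom a * (MulAut.conj c).toMonoidHom b =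
      (MulAut.conj c).toMonoidHom b * (MulAut.conj c).toMonoidHom a
    rw [← map_mul, ← map_mul, h1]
  · rintro _ ⟨a, ha, rfl⟩
    rw [← map_pow, hX.2 a ha, map_one]

theorem card_conj (c : G) (X : Subgroup G) : Nat.card ↥(X.map (MulAut.conj c).toMonoidHom) = Nat.card ↥X :=
  Subgroup.card_map_of_injective (MulAut.conj c).injective

end

variable {V P W : Type} [AddCommGroup V] [Module ℚ V] [Group P] [AddCommGroup W] [Module ℚ W]
  {D : MData V} {M : KS ↥D.G V P W} {x₀ : P} {θ : leechLattice → P} {K₀ : Type} [Group K₀]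

/-- `|C(z)|` -/
theorem card_cent_z (H : Link D M x₀) (A : All D K₀) :
    Nat.card (centralizer ({M.z} : Set D.G)) = 2 ^ 25 * 4157776806543360000 := by
  have hz : M.z = zG A.hG := Subtype.ext H.z_eq.symm
  rw [hz, ← card_C A.hG]
  refine Nat.card_congr (Equiv.ofBijective
    (fun x => (⟨(x : D.G), (Cfsg.Agent.MonsterX.MainSimple.mem_cent_iff A.hG A.hR A.hL A.hO A.hT _).1
      x.2⟩ : D.C)) ⟨?_, ?_⟩)
  · intro a b hab
    apply Subtype.ext
    apply Subtype.ext
    exact congrArg (fun y : D.C => (y : V ≃ₗ[ℚ] V)) hab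
  · intro c
    exact ⟨⟨⟨c, C_le c.2⟩, (Cfsg.Agent.MonsterX.MainSimple.mem_cent_iff A.hG A.hR A.hL A.hO A.hT _).2
      c.2⟩, rfl⟩

/-- `|C(t)|` -/
theorem card_cent_t (A : All D K₀) (H : Link D M x₀) (L : Lift M θ) :
    Nat.card (centralizer ({M.ι x₀} : Set D.G)) = 2 * 4154781481226426191177580544000000 :=
  ModelB.card_cent A (ModelB.exists_conj_t A.hG A.hR H L H.x₀_mem)

theorem not_conj (A : All D K₀) (H : Link D M x₀) (L : Lift M θ) : ¬ IsConj M.z (M.ι x₀) := by
  intro h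
  have h1 := card_centralizer_conj h
  rw [card_cent_z H A, card_cent_t A H L] at h1
  norm_num at h1

/-- In `X = C_G(t)` : the centralizer of `f₁` is not divisible by `5 ^ 3`. -/
theorem card_f₁ (A : All D K₀) (H : Link D M x₀) (L : Lift M θ) {y : ℕ → D.G} (hP : PRel y) (hne : y 0 ≠ y 1)
    (hy : ∃ g : D.G, g * tG A.hG A.hR * g⁻¹ = y 10) {f₁ f₂ f₃ f₄ : BB M x₀}
    (Fc : FusionType.Facts (tb M x₀) f₁ f₂ f₃ f₄)
    (hcz : ∀ h, IsConj (tb M x₀ * (f₁ * f₂)) (⟨M.z, h⟩ : BB M x₀))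
    (hcd : IsConj M.z ((f₁ * f₂ * f₃ : BB M x₀) : D.G)) :
    Nat.card (centralizer ({f₁} : Set (BB M x₀))) = 4 * 76532479683774853939200 := by
  have hfin : Finite D.G := G_finite A.hO
  have hB : Cfsg.IsB Cfsg.Spor.BabyMonster := Cfsg.Agent.S1704.result
  obtain ⟨⟨h1, h2, h3⟩, h43⟩ := ModelB.fieldsKS A H L hP hne hy hB H.x₀_mem
  have hzm : M.z ∈ BB M x₀ := mem_centralizer_singleton_iff.2 (by
    show M.ι M.zc * M.ι x₀ = M.ι x₀ * M.ι M.zc
    rw [← map_mul, ← map_mul, M.zc_comm])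
  have hE : Emb (BB M x₀).subtype M.z (tb M x₀) f₁ f₂ f₃ :=
    ⟨Subtype.val_injective, nineteen H A, ((BB M x₀).subtype.map_isConj (hcz hzm)).symm, hcd⟩
  -- the group `²E₆(2)`
  let K := GaloisField 2 2
  let _i : Fintype K := Fintype.ofFinite K
  have hK : Fintype.card K = 4 := by
    rw [← Nat.card_eq_fintype_card]
    exact GaloisField.card 2 2 (by norm_num)
  have hsE := EInst.isSimple K hK
  obtain ⟨e0, r, he0, hgen, hr, -, hconj⟩ := TwoESix.GoodInst.exists_good K hK
  have hR : ∀ i, e0 i ∈ rootClass K := fun i => by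
    obtain ⟨g, hg⟩ := hconj i
    exact ⟨g, r, hr, hg⟩
  have hHB : Finite HB := Cfsg.Agent.BM.HBFinal.finite_HB
  have hcard := Cfsg.Agent.BM.HBFinal.hcard K hK
  have hcE := Cfsg.Agent.BM.HBFinal.card_E K hK
  have N : Nodes (tb M x₀) (rootClass K) :=
    NodesLit.nodes he0 hgen hcard hcE hR h1 h2 h3 Fc hE
  obtain ⟨yB, h, π, h10, -, DK⟩ := N
  have h19 : 19 ∣ Nat.card (twistedE6 K 2) := by rw [hcE]; norm_num
  have hc5 := conj_five Fc hE h19 h10 DK
  rw [card_centralizer_conj hc5, DK.card_centralizer_five fun x => by rw [h10]; exact Fc.cen x, hcE]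

/-- Two commuting involutions of type `A` with product of type `A`. -/
theorem aa (A : All D K₀) (H : Link D M x₀) (L : Lift M θ) {τ : D.G} {y' : P}
    (T : Cfsg.Agent.MonsterU.InvTwo.TauHyp M θ ⊤ τ y') {y : ℕ → D.G} (hP : PRel y) (hne : y 0 ≠ y 1)
    (hy : ∃ g : D.G, g * tG A.hG A.hR * g⁻¹ = y 10) (v w : D.G) (hv : IsConj (M.ι x₀) v) (hw : IsConj (M.ι x₀) w)
    (hvw : v * w = w * v) (hne' : v ≠ w) (hvw' : IsConj (M.ι x₀) (v * w)) :
    ¬ 5 ^ 3 ∣ Nat.card ↥(centralizer ({v} : Set D.G) ⊓ centralizer ({w} : Set D.G)) := by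
  obtain ⟨f₁, f₂, f₃, f₄, Fc, hcz, hcd, p, hp, hp2, hp2'⟩ := FusInst.exists_facts A H L T H.x₀_mem
  have hnc := not_conj A H L
  obtain ⟨c, hc⟩ := isConj_iff.1 hv.symm
  -- conjugate `v` to `t`
  have htt : M.ι x₀ * M.ι x₀ = 1 := congrArg Subtype.val Fc.t_sq
  have ht1 : M.ι x₀ ≠ 1 := fun e => Fc.t_ne (Subtype.ext e)
  set w' : D.G := c * w * c⁻¹ with hw'
  have hcomm : w' * M.ι x₀ = M.ι x₀ * w' := by
    rw [← hc, hw']
    calc c * w * c⁻¹ * (c * v * c⁻¹) = c * (w * v) * c⁻¹ := by group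
      _ = c * (v * w) * c⁻¹ := by rw [hvw]
      _ = _ := by group
  let u : BB M x₀ := ⟨w', mem_centralizer_singleton_iff.2 hcomm⟩
  have hwc : IsConj (M.ι x₀) w' := isConj_conj c hw
  have hww : w' * w' = 1 := FusionType.conj_sq hwc htt
  have hw1 : w' ≠ 1 := FusionType.conj_ne hwc ht1
  have hwt : w' ≠ M.ι x₀ := by
    intro e
    apply hne'
    rw [← hc, hw'] at e
    exact (mul_left_cancel (mul_right_cancel e)).symm
  have htw : IsConj (M.ι x₀) (M.ι x₀ * w') := by
    have e : M.ι x₀ * w' = c * (v * w) * c⁻¹ := by rw [← hc, hw']; group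
    rw [e]
    exact isConj_conj c hvw'
  have hzm : M.z ∈ BB M x₀ := mem_centralizer_singleton_iff.2 (by
    show M.ι M.zc * M.ι x₀ = M.ι x₀ * M.ι M.zc
    rw [← map_mul, ← map_mul, M.zc_comm])
  have hu : IsConj f₁ u := by
    rcases Fc.classes u (Subtype.ext hww) (fun e => hw1 (congrArg Subtype.val e))
      (fun e => hwt (congrArg Subtype.val e)) with h | h | h | h
    · exact h
    · exfalso
      have h1 := FusionType.conj_mul_t Fc.cen h
      have h2 := (BB M x₀).subtype.map_isConj ((hcz hzm).symm.trans h1)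
      exact hnc (h2.trans htw.symm)
    · exfalso
      have h2 := (BB M x₀).subtype.map_isConj ((hcz hzm).symm.trans h)
      exact hnc (h2.trans hwc.symm)
    · exfalso
      have h2 := (BB M x₀).subtype.map_isConj h
      exact hnc ((hcd.trans h2).trans hwc.symm)
  have h5 := card_f₁ A H L hP hne hy Fc hcz hcd
  rw [card_centralizer_conj hu] at h5
  rw [card_two_conj c v w, hc, ← hw']
  have h6 : Nat.card ↥(centralizer ({M.ι x₀} : Set D.G) ⊓ centralizer ({w'} : Set D.G)) =
      Nat.card ↥(centralizer ({u} : Set (BB M x₀))) := by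
    refine Nat.card_congr ⟨fun g => ⟨⟨g, g.2.1⟩, ?_⟩, fun g => ⟨((g : BB M x₀) : D.G), (g : BB M x₀).2, ?_⟩, ?_, ?_⟩
    · refine mem_centralizer_singleton_iff.2 (Subtype.ext ?_)
      exact mem_centralizer_singleton_iff.1 g.2.2
    · refine mem_centralizer_singleton_iff.2 ?_
      exact congrArg Subtype.val (mem_centralizer_singleton_iff.1 g.2)
    · intro g; rfl
    · intro g; rfl
  rw [h6, h5]
  norm_num

/-- **The facts for the model.** -/
theorem facts (A : All D K₀) (H : Link D M x₀) (L : Lift M θ) {τ : D.G} {y' : P}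
    (T : Cfsg.Agent.MonsterU.InvTwo.TauHyp M θ ⊤ τ y') {y : ℕ → D.G} (hP : PRel y) (hne : y 0 ≠ y 1)
    (hy : ∃ g : D.G, g * tG A.hG A.hR * g⁻¹ = y 10) :
    SigAbs.Facts (G := D.G) (fun v => IsConj (M.ι x₀) v) (fun v => IsConj M.z v) := by
  have hfin : Finite D.G := G_finite A.hO
  have hz : M.z = zG A.hG := Subtype.ext H.z_eq.symm
  have hK : ∀ g : D.G, g ∈ centralizer ({M.z} : Set D.G) → g ∈ M.K := fun g hg =>
    hcent H A g (mem_centralizer_singleton_iff.1 hg)
  refine ⟨A.isM.2, ?_, ?_, ?_, ?_, ?_, ?_, ?_⟩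
  · intro v hv
    have hvv : v * v = 1 := by
      rw [← pow_two, ← hv, pow_orderOf_eq_one]
    have hv1 : v ≠ 1 := by
      rintro rfl
      rw [orderOf_one] at hv
      norm_num at hv
    rcases A.classes v hvv hv1 with ⟨h, hh⟩ | ⟨h, hh⟩
    · right
      rw [hz]
      exact isConj_iff.2 ⟨h, hh⟩
    · left
      obtain ⟨k, hk⟩ := ModelB.exists_conj_t A.hG A.hR H L H.x₀_mem
      have h1 : IsConj (tG A.hG A.hR) (M.ι x₀) := isConj_iff.2 ⟨k, hk⟩
      exact h1.symm.trans (isConj_iff.2 ⟨h, hh⟩)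
  · intro v hv
    rw [← card_centralizer_conj hv, card_cent_t A H L]
    norm_num
  · intro v hv
    rw [← card_centralizer_conj hv, card_cent_t A H L]
    norm_num
  · intro v hv
    rw [← card_centralizer_conj hv, card_cent_z H A]
    norm_num
  · intro v hv X hXv hX hc
    obtain ⟨c, hcv⟩ := isConj_iff.1 hv.symm
    have h1 : X.map (MulAut.conj c).toMonoidHom ≤ M.K := by
      rintro _ ⟨x, hx, rfl⟩
      apply hK
      refine mem_centralizer_singleton_iff.2 ?_
      have h2 := mem_centralizer_singleton_iff.1 (hXv hx)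
      change c * x * c⁻¹ * M.z = M.z * (c * x * c⁻¹)
      rw [← hcv]
      calc c * x * c⁻¹ * (c * v * c⁻¹) = c * (x * v) * c⁻¹ := by group
        _ = c * (v * x) * c⁻¹ := by rw [h2]
        _ = _ := by group
    exact FiveK.not_four h1 (elab_conj c hX) L (by rw [card_conj, hc])
  · intro v hv X hXv hX hc s hs hsv hsX
    obtain ⟨c, hcv⟩ := isConj_iff.1 hv.symm
    have hcomm : ∀ x : D.G, x * v = v * x → c * x * c⁻¹ * M.z = M.z * (c * x * c⁻¹) := by
      intro x h2
      rw [← hcv]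
      calc c * x * c⁻¹ * (c * v * c⁻¹) = c * (x * v) * c⁻¹ := by group
        _ = c * (v * x) * c⁻¹ := by rw [h2]
        _ = _ := by group
    have h1 : X.map (MulAut.conj c).toMonoidHom ≤ M.K := by
      rintro _ ⟨x, hx, rfl⟩
      exact hK _ (mem_centralizer_singleton_iff.2 (hcomm x (mem_centralizer_singleton_iff.1 (hXv hx))))
    rcases FiveK.three h1 (elab_conj c hX) L (by rw [card_conj, hc]) (s := c * s * c⁻¹) (by
        calc c * s * c⁻¹ * (c * s * c⁻¹) = c * (s * s) * c⁻¹ := by group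
          _ = 1 := by rw [hs]; group)
      (hK _ (mem_centralizer_singleton_iff.2 (hcomm s hsv))) (by
        rintro _ ⟨x, hx, rfl⟩
        change c * s * c⁻¹ * (c * x * c⁻¹) = c * x * c⁻¹ * (c * s * c⁻¹)
        calc c * s * c⁻¹ * (c * x * c⁻¹) = c * (s * x) * c⁻¹ := by group
          _ = c * (x * s) * c⁻¹ := by rw [hsX x hx]
          _ = _ := by group) with e | e
    · left
      have : s = c⁻¹ * (c * s * c⁻¹) * c := by group
      rw [this, e]; group
    · right
      rw [← hcv] at e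
      exact mul_left_cancel (mul_right_cancel e)
  · intro v w hv hw hvw hne' hvw'
    exact aa A H L T hP hne hy v w hv hw hvw hne' hvw'

end Cfsg.Agent.LThreeM.SigPar

end

-- merged: Cfsg.Agent.LThreeM.SigTrans
section

/-!
# `SigAbs.Facts` is invariant under isomorphisms (helper44)
-/

set_option autoImplicit false
set_option linter.unusedSectionVars false

namespace Cfsg.Agent.LThreeM.SigTrans

open Subgroup Cfsg Cfsg.Agent.LThreeM.SigAbs

variable {G H : Type*} [Group G] [Group H]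

theorem comm_equiv (e : G ≃* H) (x y : G) : x * y = y * x ↔ e x * e y = e y * e x := by
  rw [← map_mul, ← map_mul]
  exact e.injective.eq_iff.symm

theorem card_cent (e : G ≃* H) (v : G) :
    Nat.card ↥(centralizer ({v} : Set G)) = Nat.card ↥(centralizer ({e v} : Set H)) := by
  refine Nat.card_congr (e.toEquiv.subtypeEquiv fun g => ?_)
  rw [mem_centralizer_singleton_iff, mem_centralizer_singleton_iff]
  exact comm_equiv e g v

theorem card_cent_two (e : G ≃* H) (v w : G) :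
    Nat.card ↥(centralizer ({v} : Set G) ⊓ centralizer ({w} : Set G)) =
      Nat.card ↥(centralizer ({e v} : Set H) ⊓ centralizer ({e w} : Set H)) := by
  refine Nat.card_congr (e.toEquiv.subtypeEquiv fun g => ?_)
  rw [mem_inf, mem_inf, mem_centralizer_singleton_iff, mem_centralizer_singleton_iff, mem_centralizer_singleton_iff,
    mem_centralizer_singleton_iff]
  exact and_congr (comm_equiv e g v) (comm_equiv e g w)

theorem elab_map (e : G ≃* H) {p : ℕ} {X : Subgroup G} (hX : IsElementaryAbelian p X) :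
    IsElementaryAbelian p (X.map e.toMonoidHom) := by
  refine ⟨⟨⟨?_⟩⟩, ?_⟩
  · rintro ⟨_, a, ha, rfl⟩ ⟨_, b, hb, rfl⟩
    apply Subtype.ext
    have h1 : a * b = b * a := congrArg (fun x : ↥X => (x : G)) (hX.1.is_comm.comm ⟨a, ha⟩ ⟨b, hb⟩)
    change e.toMonoidHom a * e.toMonoidHom b = e.toMonoidHom b * e.toMonoidHom a
    rw [← map_mul, ← map_mul, h1]
  · rintro _ ⟨a, ha, rfl⟩
    rw [← map_pow, hX.2 a ha, map_one]

theorem map_le (e : G ≃* H) {X : Subgroup G} {v : G} (h : X ≤ centralizer ({v} : Set G)) :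
    X.map e.toMonoidHom ≤ centralizer ({e v} : Set H) := by
  rintro _ ⟨x, hx, rfl⟩
  exact mem_centralizer_singleton_iff.2 ((comm_equiv e x v).1 (mem_centralizer_singleton_iff.1 (h hx)))

theorem card_map (e : G ≃* H) (X : Subgroup G) : Nat.card ↥(X.map e.toMonoidHom) = Nat.card ↥X :=
  Subgroup.card_map_of_injective e.injective

theorem facts (e : G ≃* H) {A B : H → Prop} (F : Facts A B) : Facts (fun v => A (e v)) (fun v => B (e v)) where
  card := by rw [Nat.card_congr e.toEquiv]; exact F.card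
  cls := fun v hv => F.cls (e v) (by rw [← hv]; exact orderOf_injective e.toMonoidHom e.injective v)
  a2 := fun v hv => by rw [card_cent e v]; exact F.a2 _ hv
  a7 := fun v hv => by rw [card_cent e v]; exact F.a7 _ hv
  b7 := fun v hv => by rw [card_cent e v]; exact F.b7 _ hv
  b5 := fun v hv X hXv hX => by
    rw [← card_map e X]
    exact F.b5 (e v) hv _ (map_le e hXv) (elab_map e hX)
  b5' := fun v hv X hXv hX hc s hs hsv hsX => by
    rcases F.b5' (e v) hv _ (map_le e hXv) (elab_map e hX) (by rw [card_map, hc]) (e s)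
      (by rw [← map_mul, hs, map_one]) ((comm_equiv e s v).1 hsv) (by
        rintro _ ⟨x, hx, rfl⟩
        exact (comm_equiv e s x).1 (hsX x hx)) with h | h
    · left
      exact e.injective (h.trans (map_one e).symm)
    · right
      exact e.injective h
  aa := fun v w hv hw hvw hne hvw' => by
    rw [card_cent_two e v w]
    exact F.aa (e v) (e w) hv hw ((comm_equiv e v w).1 hvw) (fun h => hne (e.injective h)) (by rw [← map_mul]; exact hvw')

end Cfsg.Agent.LThreeM.SigTrans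

end

-- merged: Cfsg.Agent.LThreeM.SigRow
section

/-!
# `σ(M) ⊆ {3}` (helper44)

`sigThree` : the row of the Monster of `SigTab.FiveSig`.
-/

set_option autoImplicit false
set_option maxRecDepth 100000

namespace Cfsg.Agent.LThreeM.SigRow

open Cfsg Cfsg.Agent.MonsterX Cfsg.Agent.MonsterX.InstData Cfsg.Agent.MonsterX.MainPack Cfsg.Agent.MonsterU
open Cfsg.Agent.MonsterP Cfsg.Agent.MonsterN

/-- The facts on the concrete model. -/
theorem facts_model : ∃ A B : ↥InstData.M.G → Prop, SigAbs.Facts A B :=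
  ⟨_, _, SigPar.facts LitFin.all KDone.lnk KDone.lft
    (TauInst.tauHyp (Final.cent InstanceFinal.mOrbit Instance.mTrans)) (NodesGrp.prel LitFin.H)
    (NodesNe.ne LitFin.H) LitFin.conj_ten⟩

universe u

theorem facts_of_isoM {G : Type u} [Group G] (h : Spor.IsoM G) : ∃ A B : G → Prop, SigAbs.Facts A B := by
  obtain ⟨e⟩ := h
  obtain ⟨e'⟩ := MonsterP.Equiv.equiv
  obtain ⟨A, B, F⟩ := facts_model
  exact ⟨_, _, SigTrans.facts (e.trans e') F⟩

/-- **The row of the Monster**: `σ(M) ⊆ {3}`. -/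
theorem sigThree : SigTab.SigThree.{u} (fun X _ => Spor.IsoM X) := by
  intro G _ _ h
  obtain ⟨A, B, F⟩ := facts_of_isoM h
  exact SigAbs.sigma_three F

end Cfsg.Agent.LThreeM.SigRow

end
end
end
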