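import Mathlib
import Cfsg.Agent.Fischer.Abstract
import Cfsg.Agent.Fischer.Rank22
import Cfsg.Agent.FastGrp
import Cfsg.Agent.Prune
set_option linter.all false
prune_inst 0x7f00000000000000000000000000000000000000000000000000000000000000000000000000000000000000000000000000000000000000000000000000000000000000000000000000000000000000003ffff7ffffffffffffffffffffffbeffbdefffffff
open scoped Cfsg.Agent.FastGrp

-- merged: Cfsg.Agent.LThreeM.Benson
section

/-!
# Benson's lemma (helper44)

`A` the adjacency matrix of a strongly regular graph with `A ² = k I + λ A + μ (J - I - A)`, `s` an integer eigenvalue,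
`a = r - s`. Then for every automorphism `g` of finite order `N₂ - s N₁ ≡ k - s` modulo `a`, where `N₁` is the number of
fixed vertices and `N₂` the number of vertices mapped to a neighbour.
-/

set_option autoImplicit false
set_option linter.unusedSectionVars false

namespace Cfsg.Agent.LThreeM.Benson

open Matrix

variable {Ω : Type*} [Fintype Ω] [DecidableEq Ω]

/-- The trace of a rational matrix `Q` with `Q ^ (n + 1) = Q` is an integer. -/
theorem trace_int {Q : Matrix Ω Ω ℚ} {n : ℕ} (hn : 0 < n) (h : Q ^ (n + 1) = Q) : ∃ z : ℤ, Q.trace = z := by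
  let Q' : Matrix Ω Ω ℂ := Q.map (algebraMap ℚ ℂ)
  have hQ' : Q' ^ (n + 1) = Q' := by
    have h1 := congrArg (fun M : Matrix Ω Ω ℚ => (algebraMap ℚ ℂ).mapMatrix M) h
    simp only [map_pow] at h1
    exact h1
  have hroot : ∀ μ ∈ Q'.charpoly.roots, IsIntegral ℤ μ := by
    intro μ hμ
    have h1 : Q'.charpoly.IsRoot μ := (Polynomial.mem_roots'.1 hμ).2
    rw [Polynomial.IsRoot, Matrix.eval_charpoly] at h1
    obtain ⟨v, hv, hv'⟩ := Matrix.exists_mulVec_eq_zero_iff.2 h1
    rw [Matrix.sub_mulVec, sub_eq_zero] at hv'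
    have h2 : Q' *ᵥ v = μ • v := by
      rw [← hv']
      simp [Matrix.scalar_apply, ← Matrix.smul_one_eq_diagonal, Matrix.smul_mulVec]
    have h3 : ∀ k : ℕ, (Q' ^ k) *ᵥ v = μ ^ k • v := by
      intro k
      induction k with
      | zero => rw [pow_zero, pow_zero, Matrix.one_mulVec, one_smul]
      | succ k ih => rw [pow_succ, ← Matrix.mulVec_mulVec, h2, Matrix.mulVec_smul, ih, smul_smul, pow_succ']
    have h4 : μ ^ (n + 1) = μ := by
      have h5 := h3 (n + 1)
      rw [hQ', h2] at h5
      have h6 : (μ - μ ^ (n + 1)) • v = 0 := by rw [sub_smul, h5, sub_self]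
      rcases smul_eq_zero.1 h6 with h7 | h7
      · exact (sub_eq_zero.1 h7).symm
      · exact absurd h7 hv
    refine ⟨Polynomial.X ^ (n + 1) - Polynomial.X, ?_, ?_⟩
    · apply Polynomial.monic_X_pow_sub
      rw [Polynomial.degree_X]
      exact_mod_cast (by omega : 1 < n + 1)
    · simp [h4]
  have htr : Q'.trace = Q'.charpoly.roots.sum := Matrix.trace_eq_sum_roots_charpoly Q'
  have hint : IsIntegral ℤ Q'.trace := by
    rw [htr]
    exact IsIntegral.multiset_sum hroot
  have h5 : Q'.trace = algebraMap ℚ ℂ Q.trace := by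
    rw [Matrix.trace, Matrix.trace, map_sum]
    rfl
  rw [h5, isIntegral_algebraMap_iff (algebraMap ℚ ℂ).injective] at hint
  obtain ⟨z, hz⟩ := IsIntegrallyClosed.isIntegral_iff.1 hint
  exact ⟨z, hz.symm⟩

/-- the all-one matrix -/
abbrev J (Ω : Type*) : Matrix Ω Ω ℚ := Matrix.of fun _ _ => 1

theorem J_mul_J : J Ω * J Ω = (Fintype.card Ω : ℚ) • J Ω := by
  ext x y
  simp only [Matrix.mul_apply, J, _root_.Matrix.of_apply, _root_.mul_one, _root_.Finset.sum_const, _root_.Finset.card_univ, _root_.nsmul_eq_mul, _root_.Matrix.smul_apply, _root_.smul_eq_mul]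

/-- **Benson's lemma**, matrix form. -/
theorem benson [Nonempty Ω] {M P : Matrix Ω Ω ℚ} {a b m : ℚ} (ha : a ≠ 0) (hM : M * M = a • M + b • J Ω)
    (hMJ : M * J Ω = m • J Ω) (hJM : J Ω * M = m • J Ω) (hPM : P * M = M * P) (hPJ : P * J Ω = J Ω)
    (hJP : J Ω * P = J Ω) {n : ℕ} (hn : 0 < n) (hP : P ^ n = 1) : ∃ z : ℤ, (M * P).trace = m + a * z := by
  set N : ℚ := (Fintype.card Ω : ℚ) with hN
  have hN0 : N ≠ 0 := by
    rw [hN]
    exact_mod_cast Fintype.card_ne_zero
  have hb : m * m = a * m + b * N := by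
    have h1 : (M * M) * J Ω = (m * m) • J Ω := by
      rw [mul_assoc, hMJ, mul_smul_comm, hMJ, smul_smul]
    have h2 : (M * M) * J Ω = (a * m + b * N) • J Ω := by
      rw [hM, add_mul, smul_mul_assoc, hMJ, smul_mul_assoc, J_mul_J, smul_smul, smul_smul, add_smul]
    rw [h1] at h2
    obtain ⟨x⟩ := ‹Nonempty Ω›
    have h3 := congrFun (congrFun h2 x) x
    simpa [J] using h3
  let E : Matrix Ω Ω ℚ := a⁻¹ • (M - (m / N) • J Ω)
  have hE : E * E = E := by
    have h1 : (M - (m / N) • J Ω) * (M - (m / N) • J Ω) = a • (M - (m / N) • J Ω) := by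
      rw [mul_sub, sub_mul, sub_mul, hM, smul_mul_assoc, hJM, mul_smul_comm, hMJ, smul_mul_assoc, mul_smul_comm, J_mul_J,
        smul_smul, smul_smul, smul_smul, ← hN]
      have h2 : b = m / N * m - a * (m / N) := by
        field_simp
        linarith only [hb]
      have h3 : m / N * (m / N) * N = m / N * m := by
        field_simp
      rw [h3, sub_self, sub_zero, smul_sub, smul_smul, h2, sub_smul]
      abel
    change (a⁻¹ • (M - (m / N) • J Ω)) * (a⁻¹ • (M - (m / N) • J Ω)) = _
    rw [smul_mul_assoc, mul_smul_comm, h1, smul_smul, smul_smul]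
    congr 1
    field_simp
  have hEP : P * E = E * P := by
    change P * (a⁻¹ • (M - (m / N) • J Ω)) = (a⁻¹ • (M - (m / N) • J Ω)) * P
    rw [mul_smul_comm, smul_mul_assoc, mul_sub, sub_mul, hPM, mul_smul_comm, smul_mul_assoc, hPJ, hJP]
  have hEpow : ∀ k : ℕ, E ^ (k + 1) = E := by
    intro k
    induction k with
    | zero => rw [zero_add, pow_one]
    | succ k ih => rw [pow_succ, ih, hE]
  have hQ : (E * P) ^ (n + 1) = E * P := by
    have hc : Commute E P := hEP.symm
    rw [hc.mul_pow, hEpow n, pow_succ, hP, one_mul]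
  obtain ⟨z, hz⟩ := trace_int hn hQ
  refine ⟨z, ?_⟩
  have h1 : (E * P).trace = a⁻¹ * ((M * P).trace - m) := by
    change ((a⁻¹ • (M - (m / N) • J Ω)) * P).trace = _
    rw [smul_mul_assoc, Matrix.trace_smul, sub_mul, smul_mul_assoc, hJP, Matrix.trace_sub, Matrix.trace_smul]
    have h2 : (J Ω).trace = N := by
      simp [Matrix.trace, J, hN]
    rw [h2, smul_eq_mul, smul_eq_mul]
    congr 1
    field_simp
  rw [hz] at h1
  field_simp at h1
  linarith only [h1]

end Cfsg.Agent.LThreeM.Benson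

end

-- merged: Cfsg.Agent.LThreeM.SrgFix
section

/-!
# Benson's lemma for a rank three class of 3-transpositions (helper44)

`R : Rank3 G X`, `Adj x y` : `x ≠ y` and `t x`, `t y` commute. `count`: for `g` of finite order
`N₂ - s N₁ ≡ k - s` modulo `λ - μ - 2 s`. `three`: an element `g` of order 3 commutes with some `t x` or with
`t x * t (g x) * t (g ^ 2 x)` for some `x` adjacent to `g x`.
-/

set_option autoImplicit false
set_option linter.unusedSectionVars false

namespace Cfsg.Agent.LThreeM.SrgFix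

open Cfsg Cfsg.Agent.Fischer.Abstract Cfsg.Agent.LThreeM.Benson

variable {G X : Type*} [Group G] [MulAction G X] (R : Rank3 G X)

/-- distinct commuting points -/
def Adj (x y : X) : Prop := x ≠ y ∧ R.Com x y

theorem adj_symm {x y : X} (h : Adj R x y) : Adj R y x := ⟨h.1.symm, R.com_symm h.2⟩

theorem adj_comm {x y : X} : Adj R x y ↔ Adj R y x := ⟨adj_symm R, adj_symm R⟩

theorem adj_smul (g : G) (x y : X) : Adj R (g • x) (g • y) ↔ Adj R x y := by
  unfold Adj
  rw [R.com_smul, (MulAction.injective g).ne_iff]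

theorem adj_x0_c : Adj R R.x0 R.c := ⟨R.c_ne_x0.symm, R.com_x0_c⟩

/-- the common neighbours -/
def cn (x y : X) : Set X := {z | Adj R x z ∧ Adj R y z}

/-- the neighbours -/
def nb (x : X) : Set X := {z | Adj R x z}

theorem ncard_nb_smul (g : G) (x : X) : (nb R (g • x)).ncard = (nb R x).ncard := by
  have : nb R (g • x) = (fun z => g • z) '' nb R x := by
    ext z
    constructor
    · intro hz
      refine ⟨g⁻¹ • z, ?_, smul_inv_smul g z⟩
      have h1 : Adj R (g • x) z := hz
      rw [← smul_inv_smul g z, adj_smul] at h1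
      exact h1
    · rintro ⟨w, hw, rfl⟩
      exact (adj_smul R g x w).2 hw
  rw [this, Set.ncard_image_of_injective _ (MulAction.injective g)]

theorem ncard_cn_smul (g : G) (x y : X) : (cn R (g • x) (g • y)).ncard = (cn R x y).ncard := by
  have : cn R (g • x) (g • y) = (fun z => g • z) '' cn R x y := by
    ext z
    constructor
    · rintro ⟨h1, h2⟩
      refine ⟨g⁻¹ • z, ⟨?_, ?_⟩, smul_inv_smul g z⟩
      · rw [← smul_inv_smul g z, adj_smul] at h1
        exact h1
      · rw [← smul_inv_smul g z, adj_smul] at h2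
        exact h2
    · rintro ⟨w, hw, rfl⟩
      exact ⟨(adj_smul R g x w).2 hw.1, (adj_smul R g y w).2 hw.2⟩
  rw [this, Set.ncard_image_of_injective _ (MulAction.injective g)]

theorem ncard_nb (x : X) : (nb R x).ncard = (nb R R.x0).ncard := by
  obtain ⟨g, rfl⟩ := R.trans x
  exact ncard_nb_smul R g _

/-- transitivity on adjacent pairs -/
theorem exists_adj {x y : X} (h : Adj R x y) : ∃ g : G, g • R.x0 = x ∧ g • R.c = y := by
  obtain ⟨g, rfl⟩ := R.trans x
  rcases R.rank3 (g⁻¹ • y) with h1 | ⟨k, hk, h1⟩ | ⟨k, hk, h1⟩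
  · exfalso
    apply h.1
    rw [← h1, smul_inv_smul]
  · exact ⟨g * k, by rw [mul_smul, hk], by rw [mul_smul, h1, smul_inv_smul]⟩
  · exfalso
    apply R.not_com_x0_b
    have h2 := h.2
    rw [← smul_inv_smul g y, ← h1, R.com_smul] at h2
    rw [← hk, R.com_smul] at h2
    exact h2

/-- transitivity on noncommuting pairs -/
theorem exists_ncom {x y : X} (h : ¬ R.Com x y) : ∃ g : G, g • R.x0 = x ∧ g • R.b = y := by
  obtain ⟨g, rfl⟩ := R.trans x
  rcases R.rank3 (g⁻¹ • y) with h1 | ⟨k, hk, h1⟩ | ⟨k, hk, h1⟩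
  · exfalso
    apply h
    rw [← smul_inv_smul g y, h1]
    exact R.com_self _
  · exfalso
    apply h
    rw [← smul_inv_smul g y, ← h1, R.com_smul, ← hk, R.com_smul]
    exact R.com_x0_c
  · exact ⟨g * k, by rw [mul_smul, hk], by rw [mul_smul, h1, smul_inv_smul]⟩

theorem ncard_cn_adj {x y : X} (h : Adj R x y) : (cn R x y).ncard = (cn R R.x0 R.c).ncard := by
  obtain ⟨g, rfl, rfl⟩ := exists_adj R h
  exact ncard_cn_smul R g _ _

theorem ncard_cn_ncom {x y : X} (h : ¬ R.Com x y) : (cn R x y).ncard = (cn R R.x0 R.b).ncard := by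
  obtain ⟨g, rfl, rfl⟩ := exists_ncom R h
  exact ncard_cn_smul R g _ _

section

variable [Fintype X]

open Classical in
/-- the adjacency matrix -/
noncomputable def A : Matrix X X ℚ := Matrix.of fun x y => if Adj R x y then 1 else 0

open Classical in
/-- the permutation matrix -/
noncomputable def P (g : G) : Matrix X X ℚ := Matrix.of fun x y => if x = g • y then 1 else 0

open Classical in
theorem P_mul (g h : G) : P (X := X) g * P h = P (g * h) := by
  ext x y
  rw [Matrix.mul_apply]
  simp only [P, Matrix.of_apply]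
  rw [Finset.sum_eq_single (h • y)]
  · simp [mul_smul]
  · intro z _ hz
    simp [hz]
  · intro hh
    exact absurd (Finset.mem_univ _) hh

open Classical in
theorem P_one : P (X := X) (1 : G) = 1 := by
  ext x y
  simp only [P, Matrix.of_apply, one_smul, Matrix.one_apply]

open Classical in
theorem P_pow (g : G) (n : ℕ) : P (X := X) g ^ n = P (g ^ n) := by
  induction n with
  | zero => rw [pow_zero, pow_zero, P_one]
  | succ n ih => rw [pow_succ, ih, P_mul, pow_succ]

open Classical in
theorem mul_P (M : Matrix X X ℚ) (g : G) (x y : X) : (M * P (X := X) g : Matrix X X ℚ) x y = M x (g • y) := by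
  rw [Matrix.mul_apply]
  simp only [P, Matrix.of_apply]
  rw [Finset.sum_eq_single (g • y)]
  · simp
  · intro z _ hz
    simp [hz]
  · intro hh
    exact absurd (Finset.mem_univ _) hh

open Classical in
theorem P_mul' (M : Matrix X X ℚ) (g : G) (x y : X) : (P (X := X) g * M : Matrix X X ℚ) x y = M (g⁻¹ • x) y := by
  rw [Matrix.mul_apply]
  simp only [P, Matrix.of_apply]
  rw [Finset.sum_eq_single (g⁻¹ • x)]
  · simp
  · intro z _ hz
    have : x ≠ g • z := by
      rintro rfl
      exact hz (inv_smul_smul g z).symm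
    simp [this]
  · intro hh
    exact absurd (Finset.mem_univ _) hh

open Classical in
theorem sum_ind (p : X → Prop) : (∑ z : X, if p z then (1 : ℚ) else 0) = ({z | p z} : Set X).ncard := by
  rw [Finset.sum_boole, Set.ncard_eq_toFinset_card']
  congr 2
  ext z
  simp only [_root_.Finset.mem_filter, _root_.Finset.mem_univ, _root_.true_and, _root_.Set.toFinset_ofPred]

open Classical in
/-- `A ² = k I + λ A + μ (J - I - A)` -/
theorem A_sq {k l m : ℕ} (hk : (nb R R.x0).ncard = k) (hl : (cn R R.x0 R.c).ncard = l) (hm : (cn R R.x0 R.b).ncard = m) :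
    A R * A R = (k : ℚ) • (1 : Matrix X X ℚ) + (l : ℚ) • A R + (m : ℚ) • (J X - 1 - A R) := by
  ext x y
  have h1 : (A R * A R) x y = ((cn R x y).ncard : ℚ) := by
    change _ = (({z | Adj R x z ∧ Adj R y z} : Set X).ncard : ℚ)
    rw [Matrix.mul_apply, ← sum_ind fun z => Adj R x z ∧ Adj R y z]
    refine Finset.sum_congr rfl fun z _ => ?_
    simp only [A, Matrix.of_apply, adj_comm R (x := z) (y := y)]
    by_cases hx : Adj R x z <;> by_cases hy : Adj R y z <;> simp [hx, hy]
  rw [h1]
  simp only [Matrix.add_apply, Matrix.sub_apply, Matrix.smul_apply, smul_eq_mul, J, Matrix.of_apply, Matrix.one_apply]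
  by_cases hxy : x = y
  · subst hxy
    have h2 : cn R x x = nb R x := by
      ext z
      exact ⟨fun h => h.1, fun h => ⟨h, h⟩⟩
    have h3 : ¬ Adj R x x := fun h => h.1 rfl
    rw [h2, ncard_nb, hk]
    simp [A, h3]
  · by_cases hc : R.Com x y
    · have h3 : Adj R x y := ⟨hxy, hc⟩
      rw [ncard_cn_adj R h3, hl]
      simp [A, h3, hxy]
    · have h3 : ¬ Adj R x y := fun h => hc h.2
      rw [ncard_cn_ncom R hc, hm]
      simp [A, h3, hxy]

open Classical in
theorem A_mul_J {k : ℕ} (hk : (nb R R.x0).ncard = k) : A R * J X = (k : ℚ) • J X := by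
  ext x y
  rw [Matrix.mul_apply]
  simp only [A, J, Matrix.of_apply, mul_one, Matrix.smul_apply, smul_eq_mul]
  rw [sum_ind, ← hk, ← ncard_nb R x]
  rfl

open Classical in
theorem J_mul_A {k : ℕ} (hk : (nb R R.x0).ncard = k) : J X * A R = (k : ℚ) • J X := by
  ext x y
  rw [Matrix.mul_apply]
  simp only [A, J, Matrix.of_apply, one_mul, Matrix.smul_apply, smul_eq_mul, mul_one]
  have h : (∑ z : X, if Adj R z y then (1 : ℚ) else 0) = ∑ z : X, if Adj R y z then (1 : ℚ) else 0 :=
    Finset.sum_congr rfl fun z _ => by simp only [adj_comm R (x := z) (y := y)]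
  rw [h, sum_ind, ← hk, ← ncard_nb R y]
  rfl

end

open Classical in
/-- **Benson's lemma** for the rank three graph. -/
theorem count [Finite X] {k l m : ℕ} (hk : (nb R R.x0).ncard = k) (hl : (cn R R.x0 R.c).ncard = l)
    (hm : (cn R R.x0 R.b).ncard = m) {s : ℤ} (hs : s * s = ((l : ℤ) - m) * s + ((k : ℤ) - m))
    (ha : (l : ℤ) - m - 2 * s ≠ 0) {g : G} {n : ℕ} (hn : 0 < n) (hg : g ^ n = 1) :
    ∃ z : ℤ, ((({x : X | Adj R x (g • x)} : Set X).ncard : ℤ) - s * (({x : X | g • x = x} : Set X).ncard : ℤ)) =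
      ((k : ℤ) - s) + ((l : ℤ) - m - 2 * s) * z := by
  have : Fintype X := Fintype.ofFinite X
  have : Nonempty X := ⟨R.x0⟩
  let M : Matrix X X ℚ := A R - (s : ℚ) • 1
  have hsQ : (s : ℚ) * s = ((l : ℚ) - m) * s + ((k : ℚ) - m) := by exact_mod_cast hs
  have hM : M * M = ((l : ℚ) - m - 2 * s) • M + (m : ℚ) • J X := by
    have h1 : M * M = A R * A R - (2 * (s : ℚ)) • A R + ((s : ℚ) * s) • 1 := by
      change (A R - (s : ℚ) • 1) * (A R - (s : ℚ) • 1) = _
      rw [mul_sub, sub_mul, sub_mul, smul_mul_assoc, one_mul, mul_smul_comm, mul_one, smul_mul_assoc, one_mul, smul_smul,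
        two_mul, add_smul]
      abel
    rw [h1, A_sq R hk hl hm]
    change _ = ((l : ℚ) - m - 2 * s) • (A R - (s : ℚ) • (1 : Matrix X X ℚ)) + (m : ℚ) • J X
    have h2 : ((l : ℚ) - m - 2 * s) * s = -(((k : ℚ) - m) + s * s) := by linarith only [hsQ]
    rw [smul_sub ((l : ℚ) - m - 2 * s), smul_smul, h2]
    module
  have hMJ : M * J X = ((k : ℚ) - s) • J X := by
    change (A R - (s : ℚ) • 1) * J X = _
    rw [sub_mul, A_mul_J R hk, smul_mul_assoc, one_mul, sub_smul]
  have hJM : J X * M = ((k : ℚ) - s) • J X := by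
    change J X * (A R - (s : ℚ) • 1) = _
    rw [mul_sub, J_mul_A R hk, mul_smul_comm, mul_one, sub_smul]
  have hPM : P g * M = M * P g := by
    ext x y
    rw [P_mul', mul_P]
    simp only [M, Matrix.sub_apply, Matrix.smul_apply, A, Matrix.of_apply, Matrix.one_apply]
    have h1 : Adj R (g⁻¹ • x) y ↔ Adj R x (g • y) := by
      rw [← adj_smul R g, smul_inv_smul]
    have h2 : (g⁻¹ • x = y) ↔ x = g • y := inv_smul_eq_iff
    simp only [h1, h2]
  have hPJ : P g * J X = J X := by
    ext x y
    rw [P_mul']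
    rfl
  have hJP : J X * P g = J X := by
    ext x y
    rw [mul_P]
    rfl
  obtain ⟨z, hz⟩ := benson (by exact_mod_cast ha) hM hMJ hJM hPM hPJ hJP hn (by rw [P_pow, hg, P_one])
  refine ⟨z, ?_⟩
  have htr : (M * P g).trace = ((({x : X | Adj R x (g • x)} : Set X).ncard : ℚ) -
      s * (({x : X | g • x = x} : Set X).ncard : ℚ)) := by
    rw [Matrix.trace, ← sum_ind, ← sum_ind, Finset.mul_sum, ← Finset.sum_sub_distrib]
    refine Finset.sum_congr rfl fun x _ => ?_
    rw [Matrix.diag_apply, mul_P]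
    simp only [M, Matrix.sub_apply, Matrix.smul_apply, A, Matrix.of_apply, Matrix.one_apply, smul_eq_mul,
      eq_comm (a := x) (b := g • x)]
  rw [htr] at hz
  exact_mod_cast hz

/-- **An element of order 3** fixes a point or maps a point to an adjacent point. -/
theorem three_aux [Finite X] {k l m : ℕ} (hk : (nb R R.x0).ncard = k) (hl : (cn R R.x0 R.c).ncard = l)
    (hm : (cn R R.x0 R.b).ncard = m) {s : ℤ} (hs : s * s = ((l : ℤ) - m) * s + ((k : ℤ) - m))
    (ha : (l : ℤ) - m - 2 * s ≠ 0) (hd : ¬ ((l : ℤ) - m - 2 * s) ∣ ((k : ℤ) - s)) {g : G} {n : ℕ} (hn : 0 < n)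
    (hg : g ^ n = 1) : (∃ x : X, g • x = x) ∨ ∃ x : X, Adj R x (g • x) := by
  by_contra hcon
  push Not at hcon
  obtain ⟨h1, h2⟩ := hcon
  have e1 : ({x : X | g • x = x} : Set X) = ∅ := by
    ext x
    exact ⟨fun h => absurd h (h1 x), fun h => absurd h (Set.notMem_empty x)⟩
  have e2 : ({x : X | Adj R x (g • x)} : Set X) = ∅ := by
    ext x
    exact ⟨fun h => absurd h (h2 x), fun h => absurd h (Set.notMem_empty x)⟩
  obtain ⟨z, hz⟩ := count R hk hl hm hs ha hn hg
  rw [e1, e2, Set.ncard_empty] at hz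
  apply hd
  refine ⟨-z, ?_⟩
  have h3 : ((0 : ℕ) : ℤ) = 0 := rfl
  rw [h3, mul_zero, sub_zero] at hz
  linarith only [hz]

/-- the product of two distinct commuting transpositions is not a transposition -/
theorem mul_ne (hw : ∃ w, R.Com R.x0 w ∧ ¬ R.Com R.c w) {x y z : X} (h : Adj R x y) : R.t x * R.t y ≠ R.t z := by
  obtain ⟨g, rfl, rfl⟩ := exists_adj R h
  obtain ⟨w, hw1, hw2⟩ := hw
  intro he
  have h1 : R.t R.x0 * R.t R.c = R.t (g⁻¹ • z) := by
    rw [R.map_smul, R.map_smul] at he
    rw [R.map_smul, ← he]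
    group
  set a := R.t R.x0
  set c := R.t R.c
  set u := R.t w
  have haw : a * u = u * a := hw1
  have hcw : c * u ≠ u * c := hw2
  have hac : a * c = c * a := R.comm_c
  have hcu : c * u * c = u * c * u := (R.com_or_braid R.c w).resolve_left hw2
  have haa : a * a = 1 := R.sq
  have hcc : c * c = 1 := R.sq' _
  have huu : u * u = 1 := R.sq' _
  rcases R.com_or_braid (g⁻¹ • z) w with h2 | h2
  · -- `a c` commutes with `u`
    have h3 : R.t (g⁻¹ • z) * R.t w = R.t w * R.t (g⁻¹ • z) := h2
    rw [← h1] at h3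
    change a * c * u = u * (a * c) at h3
    apply hcw
    have h4 : a * (c * u) = a * (u * c) := by
      rw [← mul_assoc, h3, ← mul_assoc, ← mul_assoc, haw]
    exact mul_left_cancel h4
  · rw [← h1] at h2
    change a * c * u * (a * c) = u * (a * c) * u at h2
    have h3 : a * c * u * (a * c) = c * u * c := by
      calc a * c * u * (a * c) = a * c * (u * a) * c := by group
        _ = a * (c * a) * u * c := by rw [← haw]; group
        _ = (a * a) * (c * u * c) := by rw [← hac]; group
        _ = c * u * c := by rw [haa, one_mul]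
    have h4 : u * (a * c) * u = a * (u * c * u) := by
      rw [← mul_assoc, ← haw]; group
    rw [h3, h4, ← hcu] at h2
    have h5 : a = 1 := by
      have : 1 * (c * u * c) = a * (c * u * c) := by rw [one_mul]; exact h2
      exact (mul_right_cancel this).symm
    exact R.t_x0_ne_one h5

/-- **An element of order 3** commutes with some `t x` or with an involution `t x * t (g x) * t (g ^ 2 x)`. -/
theorem three [Finite X] {k l m : ℕ} (hk : (nb R R.x0).ncard = k) (hl : (cn R R.x0 R.c).ncard = l)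
    (hm : (cn R R.x0 R.b).ncard = m) {s : ℤ} (hs : s * s = ((l : ℤ) - m) * s + ((k : ℤ) - m))
    (ha : (l : ℤ) - m - 2 * s ≠ 0) (hd : ¬ ((l : ℤ) - m - 2 * s) ∣ ((k : ℤ) - s))
    (hw : ∃ w, R.Com R.x0 w ∧ ¬ R.Com R.c w) {g : G} (hg : g ^ 3 = 1) :
    (∃ x : X, g * R.t x = R.t x * g) ∨
      ∃ x : X, Adj R x (g • x) ∧ Adj R x (g • g • x) ∧ Adj R (g • x) (g • g • x) ∧
        g * (R.t x * R.t (g • x) * R.t (g • g • x)) = (R.t x * R.t (g • x) * R.t (g • g • x)) * g ∧
        (R.t x * R.t (g • x) * R.t (g • g • x)) * (R.t x * R.t (g • x) * R.t (g • g • x)) = 1 ∧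
        R.t x * R.t (g • x) * R.t (g • g • x) ≠ 1 := by
  rcases three_aux R hk hl hm hs ha hd (n := 3) (by norm_num) hg with ⟨x, hx⟩ | ⟨x, hx⟩
  · left
    exact ⟨x, (R.smul_eq_iff_comm g x).1 hx⟩
  · right
    have h3 : g • g • g • x = x := by
      rw [← mul_smul, ← mul_smul, ← pow_three', hg, one_smul]
    have h12 : Adj R x (g • x) := hx
    have h23 : Adj R (g • x) (g • g • x) := (adj_smul R g _ _).2 hx
    have h31 : Adj R (g • g • x) x := by
      have h := (adj_smul R g _ _).2 h23
      rwa [h3] at h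
    have c12 : R.t x * R.t (g • x) = R.t (g • x) * R.t x := h12.2
    have c13 : R.t x * R.t (g • g • x) = R.t (g • g • x) * R.t x := (R.com_symm h31.2)
    have c23 : R.t (g • x) * R.t (g • g • x) = R.t (g • g • x) * R.t (g • x) := h23.2
    refine ⟨x, h12, adj_symm R h31, h23, ?_, ?_, ?_⟩
    · have e1 : g * R.t x = R.t (g • x) * g := by rw [R.map_smul]; group
      have e2 : g * R.t (g • x) = R.t (g • g • x) * g := by rw [R.map_smul g (g • x)]; group
      have e3 : g * R.t (g • g • x) = R.t x * g := by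
        have h := R.map_smul g (g • g • x)
        rw [h3] at h
        rw [h]; group
      calc g * (R.t x * R.t (g • x) * R.t (g • g • x))
          = (g * R.t x) * R.t (g • x) * R.t (g • g • x) := by group
        _ = R.t (g • x) * (g * R.t (g • x)) * R.t (g • g • x) := by rw [e1]; group
        _ = R.t (g • x) * R.t (g • g • x) * (g * R.t (g • g • x)) := by rw [e2]; group
        _ = R.t (g • x) * (R.t (g • g • x) * R.t x) * g := by rw [e3]; group
        _ = (R.t (g • x) * R.t x) * R.t (g • g • x) * g := by rw [← c13]; group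
        _ = (R.t x * R.t (g • x) * R.t (g • g • x)) * g := by rw [← c12]
    · calc R.t x * R.t (g • x) * R.t (g • g • x) * (R.t x * R.t (g • x) * R.t (g • g • x))
          = R.t x * R.t (g • x) * (R.t (g • g • x) * R.t x) * R.t (g • x) * R.t (g • g • x) := by group
        _ = R.t x * (R.t (g • x) * R.t x) * (R.t (g • g • x) * R.t (g • x)) * R.t (g • g • x) := by rw [← c13]; group
        _ = (R.t x * R.t x) * (R.t (g • x) * R.t (g • x)) * (R.t (g • g • x) * R.t (g • g • x)) := by
          rw [← c12, ← c23]; group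
        _ = 1 := by rw [R.sq', R.sq', R.sq']; group
    · intro h
      apply mul_ne R hw h12 (z := g • g • x)
      rw [mul_eq_one_iff_eq_inv] at h
      rw [h, R.t_inv]

end Cfsg.Agent.LThreeM.SrgFix

end

-- merged: Cfsg.Agent.LThreeM.FiTwo
section

/-!
# Elements of order 3 of `Fi22` (helper44)

`three` : an element of order 3 of the permutation group `Fi22` commutes with a transposition or with the product of the
three commuting transpositions of an orbit.
-/

set_option autoImplicit false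
set_option linter.unusedSectionVars false

namespace Cfsg.Agent.LThreeM.FiTwo

open Cfsg Cfsg.Agent.Fischer.Cert Cfsg.Agent.Fischer.Data22 Cfsg.Agent.Fischer.Check22
  Cfsg.Agent.Fischer.Abstract Cfsg.Agent.Fischer.Group22 Cfsg.Agent.Fischer.Rank22 Cfsg.Agent.LThreeM.SrgFix
  Cfsg.Agent.Fischer.Centralizer

/-- counting -/
def cnt (q : ℕ → Bool) : ℕ → ℕ
  | 0 => 0
  | n + 1 => cnt q n + (bif q (n + 2817) then 1 else 0)

theorem cnt_eq (q : ℕ → Bool) (n : ℕ) : cnt q n = Nat.count (fun k => q (k + 2817) = true) n := by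
  induction n with
  | zero => rfl
  | succ n ih =>
    rw [cnt, ih, Nat.count_succ]
    cases q (n + 2817) <;> rfl

theorem ncard_tail (q : ℕ → Bool) : ({z : X | 2817 ≤ z.1 ∧ q z.1 = true} : Set X).ncard = cnt q 693 := by
  have h1 : (fun z : X => (z : ℕ)) '' ({z : X | 2817 ≤ z.1 ∧ q z.1 = true} : Set X) =
      (fun k : ℕ => k + 2817) '' {k : ℕ | k < 693 ∧ q (k + 2817) = true} := by
    ext n
    constructor
    · rintro ⟨z, ⟨h1, h2⟩, rfl⟩
      have h3 := z.2
      refine ⟨z.1 - 2817, ⟨by omega, ?_⟩, by change z.1 - 2817 + 2817 = z.1; omega⟩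
      rw [Nat.sub_add_cancel h1]
      exact h2
    · rintro ⟨k, ⟨hk, hk2⟩, rfl⟩
      exact ⟨⟨k + 2817, by omega⟩, ⟨by change 2817 ≤ k + 2817; omega, hk2⟩, rfl⟩
  have h2 : ({k : ℕ | k < 693 ∧ q (k + 2817) = true} : Set ℕ) =
      (((Finset.range 693).filter fun k => q (k + 2817) = true : Finset ℕ) : Set ℕ) := by
    ext k
    rw [Finset.mem_coe, Finset.mem_filter, Finset.mem_range]
    rfl
  rw [cnt_eq, Nat.count_eq_card_filter_range, ← Set.ncard_coe_finset, ← h2,
    ← Set.ncard_image_of_injective _ Fin.val_injective, h1,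
    Set.ncard_image_of_injective _ (fun a b h => Nat.add_right_cancel h)]

theorem adj_x0_iff (z : X) : Adj R R.x0 z ↔ 2817 ≤ z.1 := by
  constructor
  · rintro ⟨h1, h2⟩
    by_contra hc
    have h3 : 1 ≤ z.1 := by
      rcases Nat.eq_zero_or_pos z.1 with h | h
      · exact absurd (Fin.ext (by rw [h, R_x0, x0_val])) h1.symm
      · exact h
    obtain ⟨k, hk, hk'⟩ := orbit_low z.1 z.2 h3 (by omega)
    have e : g .a • R.b = (pt 1 (by decide) : X) := by
      apply Fin.ext
      have h2 := pts_spec.2.2.2.2.2.2.2.2.2.2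
      have h3 := Cfsg.Agent.Fischer.Group22.nx_nx .a (x := 1) (by decide)
      rw [h2] at h3
      exact h3
    have h6 : R.Com (k • R.x0) (k • pt 1 (by decide)) := by
      rw [show k • R.x0 = R.x0 from fix_of_mem_H1 hk, hk']
      exact h2
    have h7 := (R.com_smul k _ _).1 h6
    have h8 : g .a • R.x0 = R.x0 := fix_of_mem_H1 (g_mem_H1 (s := .a) rfl)
    rw [← e, ← h8, R.com_smul] at h7
    exact R.not_com_x0_b h7
  · intro h
    refine ⟨fun e => ?_, ?_⟩
    · rw [← e, R_x0, x0_val] at h
      omega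
    · rw [R.com_x0_iff]
      right
      obtain ⟨k, hk, hk'⟩ := orbit_high z.1 z.2 h
      exact ⟨k, fix_of_mem_H1 hk, hk'⟩

/-- the trivial test -/
def qt (_ : ℕ) : Bool := true

theorem nb_card : (nb R R.x0).ncard = 693 := by
  have h : nb R R.x0 = {z : X | 2817 ≤ z.1 ∧ qt z.1 = true} := by
    ext z
    exact ⟨fun h => ⟨(adj_x0_iff z).1 h, rfl⟩, fun h => (adj_x0_iff z).2 h.1⟩
  rw [h, ncard_tail]
  decide +kernel

theorem c_val : ((pg .c : X) : ℕ) = 2817 := by
  have h := pts_spec.2.1
  decide +kernel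

/-- the test for the common neighbours of `x0` and `c` -/
noncomputable def qc (n : ℕ) : Bool := (Nat.beq (nx .c n) n) && (!Nat.beq n 2817)

/-- the test for the common neighbours of `x0` and `b` -/
noncomputable def qb (n : ℕ) : Bool := Nat.beq (nx .b n) n

theorem cnt_c : cnt qc 693 = 180 := by decide +kernel

theorem cnt_b : cnt qb 693 = 126 := by decide +kernel

theorem cn_c : (cn R R.x0 R.c).ncard = 180 := by
  have h : cn R R.x0 R.c = {z : X | 2817 ≤ z.1 ∧ qc z.1 = true} := by
    ext z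
    have h1 : Adj R R.c z ↔ qc z.1 = true := by
      unfold Adj qc
      rw [R_c, com_iff_nx, Bool.and_eq_true, Bool.not_eq_true', ← Bool.not_eq_true, Nat.beq_eq, Nat.beq_eq]
      constructor
      · rintro ⟨h1, h2⟩
        exact ⟨h2, fun e => h1 (Fin.ext (by rw [c_val, e]))⟩
      · rintro ⟨h1, h2⟩
        exact ⟨fun e => h2 (by rw [← e, c_val]), h1⟩
    exact and_congr (adj_x0_iff z) h1
  rw [h, ncard_tail, cnt_c]

theorem cn_b : (cn R R.x0 R.b).ncard = 126 := by
  have h : cn R R.x0 R.b = {z : X | 2817 ≤ z.1 ∧ qb z.1 = true} := by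
    ext z
    constructor
    · rintro ⟨h1, h2⟩
      refine ⟨(adj_x0_iff z).1 h1, ?_⟩
      unfold qb
      rw [Nat.beq_eq]
      exact (com_iff_nx .b z).1 h2.2
    · rintro ⟨h1, h2⟩
      unfold qb at h2
      rw [Nat.beq_eq] at h2
      refine ⟨(adj_x0_iff z).2 h1, ?_, (com_iff_nx .b z).2 h2⟩
      intro e
      rw [R_b] at e
      rw [← e, pg_b_val] at h1
      omega
  rw [h, ncard_tail, cnt_b]

theorem exists_w : ∃ w, R.Com R.x0 w ∧ ¬ R.Com R.c w := by
  by_contra hcon
  push Not at hcon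
  have h1 : nb R R.x0 ⊆ {z | Adj R R.c z} ∪ {R.c} := by
    intro z hz
    by_cases e : R.c = z
    · exact Or.inr e.symm
    · exact Or.inl ⟨e, hcon z hz.2⟩
  have h2 : nb R R.x0 ⊆ cn R R.x0 R.c ∪ {R.c} := by
    intro z hz
    rcases h1 hz with h | h
    · exact Or.inl ⟨hz, h⟩
    · exact Or.inr h
  have h3 := Set.ncard_le_ncard h2 (Set.toFinite _)
  have h4 := Set.ncard_union_le (cn R R.x0 R.c) {R.c}
  rw [nb_card] at h3
  rw [cn_c, Set.ncard_singleton] at h4
  omega

/-- **Elements of order 3** of the permutation group `Fi22`. -/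
theorem three {g : G} (hg : g ^ 3 = 1) :
    (∃ x : X, g * R.t x = R.t x * g) ∨
      ∃ x : X, Adj R x (g • x) ∧ Adj R x (g • g • x) ∧ Adj R (g • x) (g • g • x) ∧
        g * (R.t x * R.t (g • x) * R.t (g • g • x)) = (R.t x * R.t (g • x) * R.t (g • g • x)) * g ∧
        (R.t x * R.t (g • x) * R.t (g • g • x)) * (R.t x * R.t (g • x) * R.t (g • g • x)) = 1 ∧
        R.t x * R.t (g • x) * R.t (g • g • x) ≠ 1 :=
  SrgFix.three R nb_card cn_c cn_b (s := -9) (by norm_num) (by norm_num) (by norm_num) exists_w hg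

/-- **An element of order 3 of `Fi22` commutes with an involution.** -/
theorem exists_inv {g : G} (hg : g ^ 3 = 1) : ∃ s : G, s * s = 1 ∧ s ≠ 1 ∧ g * s = s * g := by
  rcases three hg with ⟨x, hx⟩ | ⟨x, -, -, -, h1, h2, h3⟩
  · exact ⟨R.t x, R.sq' x, R.t_ne_one x, hx⟩
  · exact ⟨_, h2, h3, h1⟩

end Cfsg.Agent.LThreeM.FiTwo

end

private theorem dce_08e8e720d8a0 : _root_.True := by
  try have : _root_.True := by simp only [_root_.Cfsg.Agent.LThreeM.SrgFix.A.eq_1]
  try have : _root_.True := by simp only [_root_.Cfsg.Agent.LThreeM.FiTwo.cnt.eq_1]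
  try have : _root_.True := by simp only [_root_.Cfsg.Agent.LThreeM.SrgFix.P.eq_1]
  try have : _root_.True := by simp only [_root_.Cfsg.Agent.LThreeM.FiTwo.cnt.eq_2]
  try have : _root_.True := by simp only [_root_.Cfsg.Agent.LThreeM.FiTwo.cnt.eq_def]
  exact _root_.True.intro
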